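import Mathlib
import Cfsg.Prelude.Def_SporadicB
import Cfsg.Agent.Lib.Helper92.Rank3SimpleGen

/-!
# Classes of 3-transpositions from a rank 3 action

Abstract group theory for statement S0472.  `G` acts on the cosets of `H` with `H`-orbits of sizes
`1, k, l`; `z` is an involution centralized by `H` which is not central in `G`.  Then
`C_G(z) = H` (the action is primitive), the class of `z` has `|G : H|` elements, and if one
conjugate `≠ z` commutes with `z` and one has a product of order three with `z`, the class is a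
class of 3-transpositions.  Also: non-split double covers are transported along isomorphisms.
-/

set_option autoImplicit false

namespace Cfsg.Agent.Helper27.Fi23Trans

open MulAction
open scoped Pointwise

variable {G : Type*} [Group G]

/-- the three `H`-orbits exhaust the cosets (copied from helper92's `trivial_of_invariant_gen`) -/
theorem partition_of_rank3 [Finite G] (H : Subgroup G) (n k l : ℕ) (hidx : H.index = n)
    (hsum : 1 + k + l = n) (hk1 : k ≠ 1) (hl1 : l ≠ 1) (hkl : k ≠ l) (q₁ q₂ : G ⧸ H)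
    (h1 : (MulAction.orbit H q₁).ncard = k) (h2 : (MulAction.orbit H q₂).ncard = l)
    (q : G ⧸ H) :
    q = ((1 : G) : G ⧸ H) ∨ q ∈ MulAction.orbit H q₁ ∨ q ∈ MulAction.orbit H q₂ := by
  classical
  set a0 : G ⧸ H := ((1 : G) : G ⧸ H) with ha0
  set O1 := MulAction.orbit H q₁ with hO1
  set O2 := MulAction.orbit H q₂ with hO2
  have hcard : Nat.card (G ⧸ H) = n := by rw [← hidx]; rfl
  have hfin : ∀ s : Set (G ⧸ H), s.Finite := fun s => Set.toFinite s
  have h01 : a0 ∉ O1 := by
    intro h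
    have : MulAction.orbit H a0 = O1 := (MulAction.orbit_eq_iff).2 h
    rw [Cfsg.Agent.Helper92.Rank3Simple.orbit_one] at this
    have hc := congrArg Set.ncard this
    rw [Set.ncard_singleton, h1] at hc
    exact hk1 hc.symm
  have h02 : a0 ∉ O2 := by
    intro h
    have : MulAction.orbit H a0 = O2 := (MulAction.orbit_eq_iff).2 h
    rw [Cfsg.Agent.Helper92.Rank3Simple.orbit_one] at this
    have hc := congrArg Set.ncard this
    rw [Set.ncard_singleton, h2] at hc
    exact hl1 hc.symm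
  have h12 : Disjoint O1 O2 := by
    rcases MulAction.orbit.eq_or_disjoint (G := H) q₁ q₂ with h | h
    · exfalso
      have hc := congrArg Set.ncard h
      rw [h1, h2] at hc
      exact hkl hc
    · exact h
  have hd01 : Disjoint ({a0} : Set (G ⧸ H)) O1 := Set.disjoint_singleton_left.2 h01
  have hd02 : Disjoint ({a0} : Set (G ⧸ H)) O2 := Set.disjoint_singleton_left.2 h02
  have hd012 : Disjoint (({a0} : Set (G ⧸ H)) ∪ O1) O2 := Set.disjoint_union_left.2 ⟨hd02, h12⟩
  have huniv : ({a0} : Set (G ⧸ H)) ∪ O1 ∪ O2 = Set.univ := by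
    rw [Set.eq_univ_iff_ncard, Set.ncard_union_eq hd012 (hfin _) (hfin _),
      Set.ncard_union_eq hd01 (hfin _) (hfin _), Set.ncard_singleton, h1, h2, hcard, hsum]
  have hq : q ∈ ({a0} : Set (G ⧸ H)) ∪ O1 ∪ O2 := by rw [huniv]; exact Set.mem_univ q
  rcases hq with (hq | hq) | hq
  · left; exact hq
  · right; left; exact hq
  · right; right; exact hq

/-- cosets in one `H`-orbit come from one double coset -/
theorem dc_of_mem_orbit (H : Subgroup G) (g g' : G)
    (h : (g : G ⧸ H) ∈ MulAction.orbit H (g' : G ⧸ H)) :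
    ∃ a ∈ H, ∃ b ∈ H, g = a * g' * b := by
  obtain ⟨⟨a, ha⟩, e⟩ := h
  change ((a : G) • ((g' : G) : G ⧸ H)) = _ at e
  rw [MulAction.Quotient.smul_mk, QuotientGroup.eq] at e
  refine ⟨a, ha, _, e, ?_⟩
  simp only [smul_eq_mul]
  group

theorem mem_of_mk_eq_one (H : Subgroup G) (g : G) (h : (g : G ⧸ H) = ((1 : G) : G ⧸ H)) :
    g ∈ H := by
  rw [QuotientGroup.eq] at h
  have := H.inv_mem h
  simpa using this

section conj

variable (H : Subgroup G) (z : G) (hzH : ∀ h ∈ H, h * z = z * h)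

include hzH in
theorem conj_dc (a b g : G) (ha : a ∈ H) (hb : b ∈ H) :
    z * ((a * g * b) * z * (a * g * b)⁻¹) = a * (z * (g * z * g⁻¹)) * a⁻¹ ∧
    ((a * g * b) * z * (a * g * b)⁻¹) * z = a * ((g * z * g⁻¹) * z) * a⁻¹ := by
  have h1 : b * z * b⁻¹ = z := by rw [hzH b hb, mul_inv_cancel_right]
  have h2 : a * z = z * a := hzH a ha
  have h3 : z * a⁻¹ = a⁻¹ * z := by
    have := congrArg (fun x => a⁻¹ * x * a⁻¹) h2
    simp only [inv_mul_cancel_left, mul_assoc, mul_inv_cancel, mul_one] at this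
    exact this
  have e : (a * g * b) * z * (a * g * b)⁻¹ = a * (g * z * g⁻¹) * a⁻¹ := by
    have : (a * g * b) * z * (a * g * b)⁻¹ = a * (g * (b * z * b⁻¹) * g⁻¹) * a⁻¹ := by group
    rw [this, h1]
  rw [e]
  constructor
  · calc z * (a * (g * z * g⁻¹) * a⁻¹) = (z * a) * (g * z * g⁻¹) * a⁻¹ := by group
      _ = (a * z) * (g * z * g⁻¹) * a⁻¹ := by rw [h2]
      _ = a * (z * (g * z * g⁻¹)) * a⁻¹ := by group
  · calc a * (g * z * g⁻¹) * a⁻¹ * z = a * (g * z * g⁻¹) * (a⁻¹ * z) := by group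
      _ = a * (g * z * g⁻¹) * (z * a⁻¹) := by rw [h3]
      _ = a * ((g * z * g⁻¹) * z) * a⁻¹ := by group

end conj

theorem conj_pow_eq_one_iff (a x : G) (m : ℕ) : (a * x * a⁻¹) ^ m = 1 ↔ x ^ m = 1 := by
  rw [conj_pow]
  constructor
  · intro h
    have := congrArg (fun y => a⁻¹ * y * a) h
    simpa [mul_assoc] using this
  · intro h
    rw [h, mul_one, mul_inv_cancel]

theorem conj_pow_eq_one_iff' (a x : G) (m : ℕ) : (a⁻¹ * x * a) ^ m = 1 ↔ x ^ m = 1 := by
  have := conj_pow_eq_one_iff a⁻¹ x m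
  rwa [inv_inv] at this

/-- the main abstract statement -/
theorem three_transposition_of_rank3 [Finite G] (H : Subgroup G) (n k l : ℕ)
    (hidx : H.index = n) (hn : n ≠ 1)
    (hsum : 1 + k + l = n) (hk1 : k ≠ 1) (hl1 : l ≠ 1) (hkl : k ≠ l)
    (hkd : ¬ (1 + k) ∣ n) (hld : ¬ (1 + l) ∣ n) (q₁ q₂ : G ⧸ H)
    (h1 : (MulAction.orbit H q₁).ncard = k) (h2 : (MulAction.orbit H q₂).ncard = l)
    (z : G) (hz2 : z * z = 1) (hz1 : z ≠ 1) (hzH : ∀ h ∈ H, h * z = z * h)
    (hgen : Subgroup.normalClosure ({z} : Set G) = ⊤)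
    (g1 g2 : G) (hg1 : (z * (g1 * z * g1⁻¹)) ^ 2 = 1) (hg1' : g1 * z * g1⁻¹ ≠ z)
    (hg2 : (z * (g2 * z * g2⁻¹)) ^ 3 = 1)
    (hg2' : z * (g2 * z * g2⁻¹) ≠ (g2 * z * g2⁻¹) * z) :
    Subgroup.centralizer ({z} : Set G) = H ∧
      Cfsg.IsThreeTranspositionClass (conjugatesOf z) ∧ Nat.card (conjugatesOf z) = n := by
  classical
  have hcardQ : Nat.card (G ⧸ H) = n := by rw [← hidx]; rfl
  -- (A) the centralizer
  have hprim : IsPreprimitive G (G ⧸ H) :=
    Cfsg.Agent.Helper92.Rank3Simple.isPreprimitive_of_rank3_gen H n k l hidx hsum hk1 hl1 hkl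
      hkd hld q₁ q₂ h1 h2
  have hnt : Nontrivial (G ⧸ H) := by
    rw [← Finite.one_lt_card_iff_nontrivial, hcardQ]
    have : n ≠ 0 := by rw [← hidx]; exact Subgroup.index_ne_zero_of_finite
    omega
  have hco : IsCoatom H := by
    have := (MulAction.isCoatom_stabilizer_iff_preprimitive (G := G) ((1 : G) : G ⧸ H)).2 hprim
    rwa [MulAction.stabilizer_quotient] at this
  have hle : H ≤ Subgroup.centralizer ({z} : Set G) := by
    intro h hh
    rw [Subgroup.mem_centralizer_iff]
    intro y hy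
    rw [Set.mem_singleton_iff] at hy
    subst hy
    exact (hzH h hh).symm
  have hA : Subgroup.centralizer ({z} : Set G) = H := by
    rcases hco.le_iff.1 hle with h | h
    · exfalso
      apply hg2'
      have : g2 * z * g2⁻¹ ∈ Subgroup.centralizer ({z} : Set G) := by rw [h]; exact Subgroup.mem_top _
      rw [Subgroup.mem_centralizer_iff] at this
      exact this z (Set.mem_singleton z)
    · exact h
  -- orders
  have hzsq : z ^ 2 = 1 := by rw [pow_two, hz2]
  have hzord : orderOf z = 2 := orderOf_eq_prime hzsq hz1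
  have hzinv : z⁻¹ = z := inv_eq_of_mul_eq_one_left hz2
  -- the class as an orbit
  have hD : conjugatesOf z = MulAction.orbit (ConjAct G) z := by
    ext x
    rw [ConjAct.mem_orbit_conjAct, isConj_comm]
    rfl
  -- (B) the size of the class
  have hB : Nat.card (conjugatesOf z) = n := by
    rw [Nat.card_coe_set_eq, hD, ← MulAction.index_stabilizer]
    have e1 : Nat.card (MulAction.stabilizer (ConjAct G) z) *
        (MulAction.stabilizer (ConjAct G) z).index = Nat.card (ConjAct G) :=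
      Subgroup.card_mul_index _
    have e2 : Nat.card H * H.index = Nat.card G := Subgroup.card_mul_index _
    have e3 : Nat.card (MulAction.stabilizer (ConjAct G) z) = Nat.card H := by
      rw [← Subgroup.nat_card_centralizer_nat_card_stabilizer, hA]
    have e4 : Nat.card (ConjAct G) = Nat.card G := rfl
    have hpos : 0 < Nat.card H := Nat.card_pos
    rw [e3, e4, ← e2] at e1
    rw [← hidx]
    exact Nat.eq_of_mul_eq_mul_left hpos e1
  -- (C) generation
  have hC : Subgroup.closure (conjugatesOf z) = ⊤ := by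
    rw [← hgen]
    unfold Subgroup.normalClosure Group.conjugatesOfSet
    rw [Set.biUnion_singleton]
  -- (D) 3-transpositions
  have hconj : ∀ d ∈ conjugatesOf z, ∃ c : G, d = c * z * c⁻¹ := by
    intro d hd
    change IsConj z d at hd
    rw [isConj_iff] at hd
    obtain ⟨c, hc⟩ := hd
    exact ⟨c, hc.symm⟩
  have hord : ∀ d ∈ conjugatesOf z, orderOf d = 2 := by
    intro d hd
    obtain ⟨c, rfl⟩ := hconj d hd
    apply orderOf_eq_prime
    · rw [conj_pow, hzsq, mul_one, mul_inv_cancel]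
    · intro h
      apply hz1
      have := congrArg (fun y => c⁻¹ * y * c) h
      simpa [mul_assoc] using this
  -- the key property for conjugates `g z g⁻¹`
  have hcomm1 : z * (g1 * z * g1⁻¹) = (g1 * z * g1⁻¹) * z := by
    have e1sq : (g1 * z * g1⁻¹) * (g1 * z * g1⁻¹) = 1 := by
      have : (g1 * z * g1⁻¹) * (g1 * z * g1⁻¹) = g1 * (z * z) * g1⁻¹ := by group
      rw [this, hz2, mul_one, mul_inv_cancel]
    rw [pow_two] at hg1
    have h3 : z * (g1 * z * g1⁻¹) = (z * (g1 * z * g1⁻¹))⁻¹ := eq_inv_of_mul_eq_one_left hg1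
    rw [mul_inv_rev, hzinv, inv_eq_of_mul_eq_one_left e1sq] at h3
    exact h3
  have hq1 : (g1 : G ⧸ H) ≠ ((1 : G) : G ⧸ H) := by
    intro h
    have hm := mem_of_mk_eq_one H g1 h
    apply hg1'
    rw [hzH g1 hm, mul_inv_cancel_right]
  have hq2 : (g2 : G ⧸ H) ≠ ((1 : G) : G ⧸ H) := by
    intro h
    have hm := mem_of_mk_eq_one H g2 h
    apply hg2'
    rw [hzH g2 hm, mul_inv_cancel_right]
  have hq12 : (g2 : G ⧸ H) ∉ MulAction.orbit H (g1 : G ⧸ H) := by
    intro h
    obtain ⟨a, ha, b, hb, e⟩ := dc_of_mem_orbit H g2 g1 h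
    obtain ⟨e1, e2⟩ := conj_dc H z hzH a b g1 ha hb
    apply hg2'
    rw [e, e1, e2, hcomm1]
  have hpart := partition_of_rank3 H n k l hidx hsum hk1 hl1 hkl q₁ q₂ h1 h2
  have key : ∀ g : G, (z * (g * z * g⁻¹)) ^ 2 = 1 ∨ (z * (g * z * g⁻¹)) ^ 3 = 1 := by
    intro g
    -- transfer along a double coset
    have tr : ∀ g' : G, (g : G ⧸ H) ∈ MulAction.orbit H (g' : G ⧸ H) →
        ((z * (g' * z * g'⁻¹)) ^ 2 = 1 ∨ (z * (g' * z * g'⁻¹)) ^ 3 = 1) →
        ((z * (g * z * g⁻¹)) ^ 2 = 1 ∨ (z * (g * z * g⁻¹)) ^ 3 = 1) := by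
      intro g' hm hP
      obtain ⟨a, ha, b, hb, e⟩ := dc_of_mem_orbit H g g' hm
      obtain ⟨e1, _⟩ := conj_dc H z hzH a b g' ha hb
      rw [e, e1, conj_pow_eq_one_iff, conj_pow_eq_one_iff]
      exact hP
    -- same orbit
    have same : ∀ (q₀ : G ⧸ H) (x y : G), (x : G ⧸ H) ∈ MulAction.orbit H q₀ →
        (y : G ⧸ H) ∈ MulAction.orbit H q₀ →
        (x : G ⧸ H) ∈ MulAction.orbit H (y : G ⧸ H) := by
      intro q₀ x y hx hy
      rw [← (MulAction.orbit_eq_iff).2 hy] at hx
      exact hx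
    rcases hpart (g : G ⧸ H) with h0 | hO1 | hO2
    · left
      have hm := mem_of_mk_eq_one H g h0
      rw [hzH g hm, mul_inv_cancel_right, hz2, one_pow]
    · rcases hpart (g1 : G ⧸ H) with ha | ha | ha
      · exact absurd ha hq1
      · exact tr g1 (same q₁ g g1 hO1 ha) (Or.inl hg1)
      · rcases hpart (g2 : G ⧸ H) with hb | hb | hb
        · exact absurd hb hq2
        · exact tr g2 (same q₁ g g2 hO1 hb) (Or.inr hg2)
        · exact absurd (same q₂ g2 g1 hb ha) hq12
    · rcases hpart (g1 : G ⧸ H) with ha | ha | ha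
      · exact absurd ha hq1
      · rcases hpart (g2 : G ⧸ H) with hb | hb | hb
        · exact absurd hb hq2
        · exact absurd (same q₁ g2 g1 hb ha) hq12
        · exact tr g2 (same q₂ g g2 hO2 hb) (Or.inr hg2)
      · exact tr g1 (same q₂ g g1 hO2 ha) (Or.inl hg1)
  have hT : ∀ d ∈ conjugatesOf z, ∀ e ∈ conjugatesOf z, (d * e) ^ 2 = 1 ∨ (d * e) ^ 3 = 1 := by
    intro d hd e he
    obtain ⟨c, rfl⟩ := hconj d hd
    obtain ⟨c', rfl⟩ := hconj e he
    have : c * z * c⁻¹ * (c' * z * c'⁻¹) =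
        c * (z * ((c⁻¹ * c') * z * (c⁻¹ * c')⁻¹)) * c⁻¹ := by group
    rw [this, conj_pow_eq_one_iff, conj_pow_eq_one_iff]
    exact key (c⁻¹ * c')
  exact ⟨hA, ⟨⟨hord, hT⟩, ⟨z, mem_conjugatesOf_self, rfl⟩, hC⟩, hB⟩

/-- non-split double covers are transported along isomorphisms -/
theorem isNonsplitDoubleCover_of_mulEquiv {H H' K : Type*} [Group H] [Group H'] [Group K]
    [Finite H] (e : H ≃* H') (h : Cfsg.IsNonsplitDoubleCover H K) :
    Cfsg.IsNonsplitDoubleCover H' K := by
  obtain ⟨hc, ⟨f⟩, hn⟩ := h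
  have : Finite H' := Finite.of_equiv H e.toEquiv
  have hmap : (Subgroup.center H).map e.toMonoidHom = Subgroup.center H' := by
    ext y
    constructor
    · rintro ⟨x, hx, rfl⟩
      have hx' : ∀ g, g * x = x * g := Subgroup.mem_center_iff.1 hx
      rw [Subgroup.mem_center_iff]
      intro g
      obtain ⟨g', rfl⟩ := e.surjective g
      show e g' * e x = e x * e g'
      rw [← map_mul, ← map_mul, hx' g']
    · intro hy
      have hy' : ∀ g, g * y = y * g := Subgroup.mem_center_iff.1 hy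
      have hm : e.symm y ∈ Subgroup.center H := by
        rw [Subgroup.mem_center_iff]
        intro g
        apply e.injective
        rw [map_mul, map_mul, e.apply_symm_apply]
        exact hy' (e g)
      exact ⟨e.symm y, hm, e.apply_symm_apply y⟩
  have hcard : Nat.card (Subgroup.center H') = 2 := by
    rw [← hmap, ← hc]
    exact Nat.card_congr ((Subgroup.center H).equivMapOfInjective e.toMonoidHom e.injective).symm.toEquiv
  refine ⟨hcard, ⟨(QuotientGroup.congr (Subgroup.center H) (Subgroup.center H') e hmap).symm.trans f⟩, ?_⟩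
  intro L' hL'
  apply hn (L'.comap e.toMonoidHom)
  rw [Subgroup.isComplement'_iff_card_mul_and_disjoint] at hL' ⊢
  obtain ⟨hm, hd⟩ := hL'
  have hLc : Nat.card (L'.comap e.toMonoidHom) = Nat.card L' := by
    apply Nat.card_congr
    exact
      { toFun := fun x => ⟨e x.1, x.2⟩
        invFun := fun y => ⟨e.symm y.1, by
          show e (e.symm y.1) ∈ L'
          rw [e.apply_symm_apply]
          exact y.2⟩
        left_inv := fun x => Subtype.ext (e.symm_apply_apply x.1)
        right_inv := fun y => Subtype.ext (e.apply_symm_apply y.1) }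
  constructor
  · rw [hLc, hc, ← hcard, hm]
    exact (Nat.card_congr e.toEquiv).symm
  · rw [Subgroup.disjoint_def] at hd ⊢
    intro x hx hxL
    apply e.injective
    rw [map_one]
    apply hd
    · rw [← hmap]
      exact ⟨x, hx, rfl⟩
    · exact hxL

/-- conjugation carries the centralizer of `z` to the centralizer of `c z c⁻¹` -/
def centralizerConjEquiv (c z : G) :
    ↥(Subgroup.centralizer ({z} : Set G)) ≃* ↥(Subgroup.centralizer ({c * z * c⁻¹} : Set G)) where
  toFun x := ⟨c * x.1 * c⁻¹, by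
    have hx := x.2
    rw [Subgroup.mem_centralizer_iff] at hx ⊢
    intro y hy
    rw [Set.mem_singleton_iff] at hy
    subst hy
    have h := hx z (Set.mem_singleton z)
    calc c * z * c⁻¹ * (c * x.1 * c⁻¹) = c * (z * x.1) * c⁻¹ := by group
      _ = c * (x.1 * z) * c⁻¹ := by rw [h]
      _ = c * x.1 * c⁻¹ * (c * z * c⁻¹) := by group⟩
  invFun y := ⟨c⁻¹ * y.1 * c, by
    have hy := y.2
    rw [Subgroup.mem_centralizer_iff] at hy ⊢
    intro w hw
    rw [Set.mem_singleton_iff] at hw
    subst hw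
    have h := hy (c * w * c⁻¹) (Set.mem_singleton _)
    calc w * (c⁻¹ * y.1 * c) = c⁻¹ * (c * w * c⁻¹ * y.1) * c := by group
      _ = c⁻¹ * (y.1 * (c * w * c⁻¹)) * c := by rw [h]
      _ = c⁻¹ * y.1 * c * w := by group⟩
  left_inv x := by
    apply Subtype.ext
    show c⁻¹ * (c * x.1 * c⁻¹) * c = x.1
    group
  right_inv y := by
    apply Subtype.ext
    show c * (c⁻¹ * y.1 * c) * c⁻¹ = y.1
    group
  map_mul' x y := by
    apply Subtype.ext
    show c * (x.1 * y.1) * c⁻¹ = c * x.1 * c⁻¹ * (c * y.1 * c⁻¹)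
    group

end Cfsg.Agent.Helper27.Fi23Trans
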