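import Mathlib

/-! Generated data: strong generating words for the 31671-point model of Fi23. -/

set_option autoImplicit false

namespace Cfsg.Agent.Helper27.Fi23

def word10 : List (Nat × Bool) := [(0, false), (4, false), (3, true), (6, true), (1, false), (4, false), (2, false), (2, true), (1, false), (6, false)]
def word11 : List (Nat × Bool) := [(7, false), (2, true), (1, true), (5, true), (7, true), (8, false), (6, true)]
def word12 : List (Nat × Bool) := [(9, true), (1, false), (1, false), (9, true), (6, true), (8, false)]
def word13 : List (Nat × Bool) := [(12, false), (12, true), (1, false), (3, false), (12, false), (2, true), (6, false), (2, true), (2, true), (0, true)]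
def word14 : List (Nat × Bool) := [(12, false), (5, false), (2, true), (0, true), (11, true), (6, false), (2, false), (12, false)]
def word15 : List (Nat × Bool) := [(10, false), (7, false), (10, false), (1, true), (0, true), (7, true), (9, false), (14, false), (3, true)]
def word16 : List (Nat × Bool) := [(4, true), (5, false), (10, true), (5, true), (4, false)]
def word17 : List (Nat × Bool) := [(14, false), (14, false), (16, false), (14, false), (13, false), (13, false), (7, false), (6, false), (0, true), (15, false), (3, true), (12, true), (14, true), (7, false), (5, true), (10, true), (5, true), (16, false), (13, false), (13, true)]
def word18 : List (Nat × Bool) := [(14, false), (17, true), (17, true), (14, false), (13, false), (16, false), (12, false), (10, false), (13, true), (14, false), (6, false), (16, false), (10, false), (4, false)]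
def word19 : List (Nat × Bool) := [(14, true), (13, false), (16, false), (8, false), (1, true), (16, false), (3, false)]
def word20 : List (Nat × Bool) := [(18, false), (17, false), (18, false), (19, false), (13, false), (16, false), (19, false), (12, false), (10, false), (13, true), (4, true), (1, true), (14, false), (12, true), (19, true)]
def word21 : List (Nat × Bool) := [(20, false), (17, false), (14, false), (13, false), (16, false), (11, true), (1, false), (2, true), (6, false), (13, false), (0, false), (4, false), (10, false), (5, true)]

end Cfsg.Agent.Helper27.Fi23
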