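import Cfsg.Agent.Lib.Helper27.Fi23.LowDefs

/-! Kernel checks of the orbit sizes of the 31671-point model of Fi23. -/

set_option autoImplicit false
set_option maxRecDepth 100000
set_option Elab.async false

namespace Cfsg.Agent.Helper27.Fi23

open Cfsg.Spor.Fi23 (Gen)
open Cfsg.Agent.Helper27 (BT)

theorem cnt_0 : Nat.beq (countBelow (inOrb 0) NP) (osize 0) = true := by decide +kernel
theorem cnt_1 : Nat.beq (countBelow (inOrb 1) NP) (osize 1) = true := by decide +kernel
theorem cnt_2 : Nat.beq (countBelow (inOrb 2) NP) (osize 2) = true := by decide +kernel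
theorem cnt_3 : Nat.beq (countBelow (inOrb 3) NP) (osize 3) = true := by decide +kernel
theorem cnt_4 : Nat.beq (countBelow (inOrb 4) NP) (osize 4) = true := by decide +kernel
theorem cnt_5 : Nat.beq (countBelow (inOrb 5) NP) (osize 5) = true := by decide +kernel
theorem cnt_6 : Nat.beq (countBelow (inOrb 6) NP) (osize 6) = true := by decide +kernel
theorem cnt_7 : Nat.beq (countBelow (inOrb 7) NP) (osize 7) = true := by decide +kernel
theorem cnt_8 : Nat.beq (countBelow (inOrb 8) NP) (osize 8) = true := by decide +kernel
theorem chk_trans : allBelow (fun x => inOrb 0 x) NP = true := by decide +kernel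

end Cfsg.Agent.Helper27.Fi23
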