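import Cfsg.Agent.Lib.Helper27.Fi23.LowDefs

/-! Kernel checks of the orbit tables of the 31671-point model of Fi23. -/

set_option autoImplicit false
set_option maxRecDepth 100000
set_option Elab.async false

namespace Cfsg.Agent.Helper27.Fi23

open Cfsg.Spor.Fi23 (Gen)
open Cfsg.Agent.Helper27 (BT)

theorem eo_1_4 : allRange (entOK 1) (4 * 3519) 3519 = true := by decide +kernel
theorem eo_1_5 : allRange (entOK 1) (5 * 3519) 3519 = true := by decide +kernel
theorem eo_1_6 : allRange (entOK 1) (6 * 3519) 3519 = true := by decide +kernel
theorem eo_1_7 : allRange (entOK 1) (7 * 3519) 3519 = true := by decide +kernel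
theorem eo_1_8 : allRange (entOK 1) (8 * 3519) 3519 = true := by decide +kernel
theorem eo_2_0 : allRange (entOK 2) (0 * 10557) 10557 = true := by decide +kernel
theorem eo_2_1 : allRange (entOK 2) (1 * 10557) 10557 = true := by decide +kernel
theorem eo_2_2 : allRange (entOK 2) (2 * 10557) 10557 = true := by decide +kernel
theorem eo_3_0 : allRange (entOK 3) (0 * 10557) 10557 = true := by decide +kernel
theorem eo_3_1 : allRange (entOK 3) (1 * 10557) 10557 = true := by decide +kernel
theorem eo_3_2 : allRange (entOK 3) (2 * 10557) 10557 = true := by decide +kernel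
theorem eo_4_0 : allRange (entOK 4) (0 * 10557) 10557 = true := by decide +kernel
theorem eo_4_1 : allRange (entOK 4) (1 * 10557) 10557 = true := by decide +kernel

end Cfsg.Agent.Helper27.Fi23
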