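import Cfsg.Agent.Lib.Helper27.Fi23.LowDefs

/-! Kernel checks of the tables of the elements of the 31671-point model of Fi23. -/

set_option autoImplicit false
set_option maxRecDepth 100000
set_option Elab.async false

namespace Cfsg.Agent.Helper27.Fi23

open Cfsg.Spor.Fi23 (Gen)
open Cfsg.Agent.Helper27 (BT)

theorem tp_3_2 : allRange (tabP 3) (2 * 10557) 10557 = true := by decide +kernel
theorem tp_4_0 : allRange (tabP 4) (0 * 10557) 10557 = true := by decide +kernel
theorem tp_4_1 : allRange (tabP 4) (1 * 10557) 10557 = true := by decide +kernel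
theorem tp_4_2 : allRange (tabP 4) (2 * 10557) 10557 = true := by decide +kernel
theorem tp_5_0 : allRange (tabP 5) (0 * 10557) 10557 = true := by decide +kernel
theorem tp_5_1 : allRange (tabP 5) (1 * 10557) 10557 = true := by decide +kernel
theorem tp_5_2 : allRange (tabP 5) (2 * 10557) 10557 = true := by decide +kernel
theorem tp_6_0 : allRange (tabP 6) (0 * 10557) 10557 = true := by decide +kernel
theorem tp_6_1 : allRange (tabP 6) (1 * 10557) 10557 = true := by decide +kernel
theorem tp_6_2 : allRange (tabP 6) (2 * 10557) 10557 = true := by decide +kernel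
theorem tp_7_0 : allRange (tabP 7) (0 * 10557) 10557 = true := by decide +kernel

end Cfsg.Agent.Helper27.Fi23
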