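import Cfsg.Agent.Lib.Helper27.Fi23.LowDefs

/-! Kernel checks of the tables of the elements of the 31671-point model of Fi23. -/

set_option autoImplicit false
set_option maxRecDepth 100000
set_option Elab.async false

namespace Cfsg.Agent.Helper27.Fi23

open Cfsg.Spor.Fi23 (Gen)
open Cfsg.Agent.Helper27 (BT)

theorem tp_11_0 : allRange (tabP 11) (0 * 10557) 10557 = true := by decide +kernel
theorem tp_11_1 : allRange (tabP 11) (1 * 10557) 10557 = true := by decide +kernel
theorem tp_11_2 : allRange (tabP 11) (2 * 10557) 10557 = true := by decide +kernel
theorem tp_12_0 : allRange (tabP 12) (0 * 10557) 10557 = true := by decide +kernel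
theorem tp_12_1 : allRange (tabP 12) (1 * 10557) 10557 = true := by decide +kernel
theorem tp_12_2 : allRange (tabP 12) (2 * 10557) 10557 = true := by decide +kernel
theorem tp_13_0 : allRange (tabP 13) (0 * 10557) 10557 = true := by decide +kernel
theorem tp_13_1 : allRange (tabP 13) (1 * 10557) 10557 = true := by decide +kernel
theorem tp_13_2 : allRange (tabP 13) (2 * 10557) 10557 = true := by decide +kernel
theorem tp_14_0 : allRange (tabP 14) (0 * 10557) 10557 = true := by decide +kernel
theorem tp_14_1 : allRange (tabP 14) (1 * 10557) 10557 = true := by decide +kernel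

end Cfsg.Agent.Helper27.Fi23
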