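import Cfsg.Agent.Lib.Helper27.Fi23.LowDefs

/-! Kernel checks of the tables of the elements of the 31671-point model of Fi23. -/

set_option autoImplicit false
set_option maxRecDepth 100000
set_option Elab.async false

namespace Cfsg.Agent.Helper27.Fi23

open Cfsg.Spor.Fi23 (Gen)
open Cfsg.Agent.Helper27 (BT)

theorem tp_14_2 : allRange (tabP 14) (2 * 10557) 10557 = true := by decide +kernel
theorem tp_15_0 : allRange (tabP 15) (0 * 10557) 10557 = true := by decide +kernel
theorem tp_15_1 : allRange (tabP 15) (1 * 10557) 10557 = true := by decide +kernel
theorem tp_15_2 : allRange (tabP 15) (2 * 10557) 10557 = true := by decide +kernel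
theorem tp_16_0 : allRange (tabP 16) (0 * 10557) 10557 = true := by decide +kernel
theorem tp_16_1 : allRange (tabP 16) (1 * 10557) 10557 = true := by decide +kernel
theorem tp_16_2 : allRange (tabP 16) (2 * 10557) 10557 = true := by decide +kernel
theorem tp_17_0 : allRange (tabP 17) (0 * 10557) 10557 = true := by decide +kernel
theorem tp_17_1 : allRange (tabP 17) (1 * 10557) 10557 = true := by decide +kernel
theorem tp_17_2 : allRange (tabP 17) (2 * 10557) 10557 = true := by decide +kernel
theorem tp_18_0 : allRange (tabP 18) (0 * 10557) 10557 = true := by decide +kernel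

end Cfsg.Agent.Helper27.Fi23
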