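import Cfsg.Agent.Lib.Helper27.Fi23.LowDefs

/-! Kernel checks of the words of the strong generators of the 31671-point model of Fi23. -/

set_option autoImplicit false
set_option maxRecDepth 100000
set_option Elab.async false

namespace Cfsg.Agent.Helper27.Fi23

open Cfsg.Spor.Fi23 (Gen)
open Cfsg.Agent.Helper27 (BT)

theorem wp_11_4 : allRange (wordP 11) (4 * 3519) 3519 = true := by decide +kernel
theorem wp_11_5 : allRange (wordP 11) (5 * 3519) 3519 = true := by decide +kernel
theorem wp_11_6 : allRange (wordP 11) (6 * 3519) 3519 = true := by decide +kernel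
theorem wp_11_7 : allRange (wordP 11) (7 * 3519) 3519 = true := by decide +kernel
theorem wp_11_8 : allRange (wordP 11) (8 * 3519) 3519 = true := by decide +kernel
theorem wl_12 : wordL 12 = true := by decide +kernel
theorem wp_12_0 : allRange (wordP 12) (0 * 3519) 3519 = true := by decide +kernel
theorem wp_12_1 : allRange (wordP 12) (1 * 3519) 3519 = true := by decide +kernel
theorem wp_12_2 : allRange (wordP 12) (2 * 3519) 3519 = true := by decide +kernel
theorem wp_12_3 : allRange (wordP 12) (3 * 3519) 3519 = true := by decide +kernel
theorem wp_12_4 : allRange (wordP 12) (4 * 3519) 3519 = true := by decide +kernel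
theorem wp_12_5 : allRange (wordP 12) (5 * 3519) 3519 = true := by decide +kernel
theorem wp_12_6 : allRange (wordP 12) (6 * 3519) 3519 = true := by decide +kernel
theorem wp_12_7 : allRange (wordP 12) (7 * 3519) 3519 = true := by decide +kernel
theorem wp_12_8 : allRange (wordP 12) (8 * 3519) 3519 = true := by decide +kernel

end Cfsg.Agent.Helper27.Fi23
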