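import Cfsg.Agent.Lib.Helper27.Fi23.LowDefs

/-! Kernel checks of the words of the strong generators of the 31671-point model of Fi23. -/

set_option autoImplicit false
set_option maxRecDepth 100000
set_option Elab.async false

namespace Cfsg.Agent.Helper27.Fi23

open Cfsg.Spor.Fi23 (Gen)
open Cfsg.Agent.Helper27 (BT)

theorem wl_16 : wordL 16 = true := by decide +kernel
theorem wp_16_0 : allRange (wordP 16) (0 * 3519) 3519 = true := by decide +kernel
theorem wp_16_1 : allRange (wordP 16) (1 * 3519) 3519 = true := by decide +kernel
theorem wp_16_2 : allRange (wordP 16) (2 * 3519) 3519 = true := by decide +kernel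
theorem wp_16_3 : allRange (wordP 16) (3 * 3519) 3519 = true := by decide +kernel
theorem wp_16_4 : allRange (wordP 16) (4 * 3519) 3519 = true := by decide +kernel
theorem wp_16_5 : allRange (wordP 16) (5 * 3519) 3519 = true := by decide +kernel
theorem wp_16_6 : allRange (wordP 16) (6 * 3519) 3519 = true := by decide +kernel
theorem wp_16_7 : allRange (wordP 16) (7 * 3519) 3519 = true := by decide +kernel
theorem wp_16_8 : allRange (wordP 16) (8 * 3519) 3519 = true := by decide +kernel
theorem wl_17 : wordL 17 = true := by decide +kernel
theorem wp_17_0 : allRange (wordP 17) (0 * 3519) 3519 = true := by decide +kernel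
theorem wp_17_1 : allRange (wordP 17) (1 * 3519) 3519 = true := by decide +kernel
theorem wp_17_2 : allRange (wordP 17) (2 * 3519) 3519 = true := by decide +kernel
theorem wp_17_3 : allRange (wordP 17) (3 * 3519) 3519 = true := by decide +kernel

end Cfsg.Agent.Helper27.Fi23
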