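import Cfsg.Agent.Lib.Helper27.Fi23.LowDefs

/-! Kernel checks of the words of the strong generators of the 31671-point model of Fi23. -/

set_option autoImplicit false
set_option maxRecDepth 100000
set_option Elab.async false

namespace Cfsg.Agent.Helper27.Fi23

open Cfsg.Spor.Fi23 (Gen)
open Cfsg.Agent.Helper27 (BT)

theorem wp_17_4 : allRange (wordP 17) (4 * 3519) 3519 = true := by decide +kernel
theorem wp_17_5 : allRange (wordP 17) (5 * 3519) 3519 = true := by decide +kernel
theorem wp_17_6 : allRange (wordP 17) (6 * 3519) 3519 = true := by decide +kernel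
theorem wp_17_7 : allRange (wordP 17) (7 * 3519) 3519 = true := by decide +kernel
theorem wp_17_8 : allRange (wordP 17) (8 * 3519) 3519 = true := by decide +kernel
theorem wl_18 : wordL 18 = true := by decide +kernel
theorem wp_18_0 : allRange (wordP 18) (0 * 3519) 3519 = true := by decide +kernel
theorem wp_18_1 : allRange (wordP 18) (1 * 3519) 3519 = true := by decide +kernel
theorem wp_18_2 : allRange (wordP 18) (2 * 3519) 3519 = true := by decide +kernel
theorem wp_18_3 : allRange (wordP 18) (3 * 3519) 3519 = true := by decide +kernel
theorem wp_18_4 : allRange (wordP 18) (4 * 3519) 3519 = true := by decide +kernel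
theorem wp_18_5 : allRange (wordP 18) (5 * 3519) 3519 = true := by decide +kernel
theorem wp_18_6 : allRange (wordP 18) (6 * 3519) 3519 = true := by decide +kernel
theorem wp_18_7 : allRange (wordP 18) (7 * 3519) 3519 = true := by decide +kernel
theorem wp_18_8 : allRange (wordP 18) (8 * 3519) 3519 = true := by decide +kernel

end Cfsg.Agent.Helper27.Fi23
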