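import Cfsg.Agent.Lib.Helper27.Fi23.LowDefs

/-! Kernel checks of the words of the strong generators of the 31671-point model of Fi23. -/

set_option autoImplicit false
set_option maxRecDepth 100000
set_option Elab.async false

namespace Cfsg.Agent.Helper27.Fi23

open Cfsg.Spor.Fi23 (Gen)
open Cfsg.Agent.Helper27 (BT)

theorem wl_19 : wordL 19 = true := by decide +kernel
theorem wp_19_0 : allRange (wordP 19) (0 * 3519) 3519 = true := by decide +kernel
theorem wp_19_1 : allRange (wordP 19) (1 * 3519) 3519 = true := by decide +kernel
theorem wp_19_2 : allRange (wordP 19) (2 * 3519) 3519 = true := by decide +kernel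
theorem wp_19_3 : allRange (wordP 19) (3 * 3519) 3519 = true := by decide +kernel
theorem wp_19_4 : allRange (wordP 19) (4 * 3519) 3519 = true := by decide +kernel
theorem wp_19_5 : allRange (wordP 19) (5 * 3519) 3519 = true := by decide +kernel
theorem wp_19_6 : allRange (wordP 19) (6 * 3519) 3519 = true := by decide +kernel
theorem wp_19_7 : allRange (wordP 19) (7 * 3519) 3519 = true := by decide +kernel
theorem wp_19_8 : allRange (wordP 19) (8 * 3519) 3519 = true := by decide +kernel
theorem wl_20 : wordL 20 = true := by decide +kernel
theorem wp_20_0 : allRange (wordP 20) (0 * 3519) 3519 = true := by decide +kernel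
theorem wp_20_1 : allRange (wordP 20) (1 * 3519) 3519 = true := by decide +kernel
theorem wp_20_2 : allRange (wordP 20) (2 * 3519) 3519 = true := by decide +kernel
theorem wp_20_3 : allRange (wordP 20) (3 * 3519) 3519 = true := by decide +kernel

end Cfsg.Agent.Helper27.Fi23
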