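import Cfsg.Agent.Lib.Helper27.Fi23.ZDefs

/-! Kernel checks of the table of the central element of the point stabilizer (Fi23). -/

set_option autoImplicit false
set_option maxRecDepth 100000
set_option Elab.async false

namespace Cfsg.Agent.Helper27.Fi23

open Cfsg.Spor.Fi23 (Gen)
open Cfsg.Agent.Helper27 (BT)

theorem zp_0 : allRange (zP) (0 * 1173) 1173 = true := by decide +kernel
theorem zp_1 : allRange (zP) (1 * 1173) 1173 = true := by decide +kernel
theorem zp_2 : allRange (zP) (2 * 1173) 1173 = true := by decide +kernel
theorem zp_3 : allRange (zP) (3 * 1173) 1173 = true := by decide +kernel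
theorem zp_4 : allRange (zP) (4 * 1173) 1173 = true := by decide +kernel
theorem zp_5 : allRange (zP) (5 * 1173) 1173 = true := by decide +kernel
theorem zp_6 : allRange (zP) (6 * 1173) 1173 = true := by decide +kernel
theorem zp_7 : allRange (zP) (7 * 1173) 1173 = true := by decide +kernel
theorem zp_8 : allRange (zP) (8 * 1173) 1173 = true := by decide +kernel

end Cfsg.Agent.Helper27.Fi23
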