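import Cfsg.Agent.Lib.Helper27.Fi23.ZDefs

/-! Kernel checks that the central element commutes with the point stabilizer (Fi23). -/

set_option autoImplicit false
set_option maxRecDepth 100000
set_option Elab.async false

namespace Cfsg.Agent.Helper27.Fi23

open Cfsg.Spor.Fi23 (Gen)
open Cfsg.Agent.Helper27 (BT)

theorem zc_a_0 : allRange (zcP .a) (0 * 10557) 10557 = true := by decide +kernel
theorem zc_a_1 : allRange (zcP .a) (1 * 10557) 10557 = true := by decide +kernel
theorem zc_a_2 : allRange (zcP .a) (2 * 10557) 10557 = true := by decide +kernel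
theorem zc_b_0 : allRange (zcP .b) (0 * 10557) 10557 = true := by decide +kernel
theorem zc_b_1 : allRange (zcP .b) (1 * 10557) 10557 = true := by decide +kernel
theorem zc_b_2 : allRange (zcP .b) (2 * 10557) 10557 = true := by decide +kernel
theorem zc_c_0 : allRange (zcP .c) (0 * 10557) 10557 = true := by decide +kernel
theorem zc_c_1 : allRange (zcP .c) (1 * 10557) 10557 = true := by decide +kernel
theorem zc_c_2 : allRange (zcP .c) (2 * 10557) 10557 = true := by decide +kernel
theorem zc_d_0 : allRange (zcP .d) (0 * 10557) 10557 = true := by decide +kernel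
theorem zc_d_1 : allRange (zcP .d) (1 * 10557) 10557 = true := by decide +kernel
theorem zc_d_2 : allRange (zcP .d) (2 * 10557) 10557 = true := by decide +kernel
theorem zc_e_0 : allRange (zcP .e) (0 * 10557) 10557 = true := by decide +kernel
theorem zc_e_1 : allRange (zcP .e) (1 * 10557) 10557 = true := by decide +kernel

end Cfsg.Agent.Helper27.Fi23
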