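import Cfsg.Agent.Lib.Helper27.Fi23.ZDefs

/-! Kernel checks that the central element commutes with the point stabilizer (Fi23). -/

set_option autoImplicit false
set_option maxRecDepth 100000
set_option Elab.async false

namespace Cfsg.Agent.Helper27.Fi23

open Cfsg.Spor.Fi23 (Gen)
open Cfsg.Agent.Helper27 (BT)

theorem zc_e_2 : allRange (zcP .e) (2 * 10557) 10557 = true := by decide +kernel
theorem zc_f_0 : allRange (zcP .f) (0 * 10557) 10557 = true := by decide +kernel
theorem zc_f_1 : allRange (zcP .f) (1 * 10557) 10557 = true := by decide +kernel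
theorem zc_f_2 : allRange (zcP .f) (2 * 10557) 10557 = true := by decide +kernel
theorem zc_g_0 : allRange (zcP .g) (0 * 10557) 10557 = true := by decide +kernel
theorem zc_g_1 : allRange (zcP .g) (1 * 10557) 10557 = true := by decide +kernel
theorem zc_g_2 : allRange (zcP .g) (2 * 10557) 10557 = true := by decide +kernel
theorem zc_h_0 : allRange (zcP .h) (0 * 10557) 10557 = true := by decide +kernel
theorem zc_h_1 : allRange (zcP .h) (1 * 10557) 10557 = true := by decide +kernel
theorem zc_h_2 : allRange (zcP .h) (2 * 10557) 10557 = true := by decide +kernel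
theorem zc_i_0 : allRange (zcP .i) (0 * 10557) 10557 = true := by decide +kernel
theorem zc_i_1 : allRange (zcP .i) (1 * 10557) 10557 = true := by decide +kernel
theorem zc_i_2 : allRange (zcP .i) (2 * 10557) 10557 = true := by decide +kernel
theorem chk_fix0 : chkFix0 = true := by decide +kernel

end Cfsg.Agent.Helper27.Fi23
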