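import Cfsg.Agent.Lib.Helper27.Fi23.ZDefs

/-! Kernel checks that the central element is conjugate to a generator (Fi23). -/

set_option autoImplicit false
set_option maxRecDepth 100000
set_option Elab.async false

namespace Cfsg.Agent.Helper27.Fi23

open Cfsg.Spor.Fi23 (Gen)
open Cfsg.Agent.Helper27 (BT)

theorem cj_18 : allRange (conjP) (18 * 1173) 1173 = true := by decide +kernel
theorem cj_19 : allRange (conjP) (19 * 1173) 1173 = true := by decide +kernel
theorem cj_20 : allRange (conjP) (20 * 1173) 1173 = true := by decide +kernel
theorem cj_21 : allRange (conjP) (21 * 1173) 1173 = true := by decide +kernel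
theorem cj_22 : allRange (conjP) (22 * 1173) 1173 = true := by decide +kernel
theorem cj_23 : allRange (conjP) (23 * 1173) 1173 = true := by decide +kernel
theorem cj_24 : allRange (conjP) (24 * 1173) 1173 = true := by decide +kernel
theorem cj_25 : allRange (conjP) (25 * 1173) 1173 = true := by decide +kernel
theorem cj_26 : allRange (conjP) (26 * 1173) 1173 = true := by decide +kernel

end Cfsg.Agent.Helper27.Fi23
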