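import Mathlib
import Cfsg.Prelude.Def_SporadicB
import Cfsg.Prelude.Def_Spor_Fi22

/-!
# A criterion for non-split double covers

Abstract group theory used for statement S1688: a finite group `H` of order `2 * |K|` (`K`
simple) with a non-trivial homomorphism `K → H ⧸ Z(H)`, a non-trivial central element, and no
non-trivial abelian quotient, is a non-split double cover of `K`.  Also: in an abelian group,
involutions satisfying the braid relations of the diagram `Y₃₃₂` and the relation
`(a b c d e f h)^9 = 1` are trivial.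
-/

set_option autoImplicit false

namespace Cfsg.Agent.Helper27.Fi23Cover

theorem isNonsplitDoubleCover_of {H K : Type*} [Group H] [Group K] [Finite H] [IsSimpleGroup K]
    (ψ : K →* H ⧸ Subgroup.center H) (k : K) (hk : ψ k ≠ 1)
    (hcard : Nat.card H = 2 * Nat.card K) (z : H) (hz : z ∈ Subgroup.center H) (hz1 : z ≠ 1)
    (hperf : ∀ (L : Subgroup H) [L.Normal], (∀ a b : H ⧸ L, a * b = b * a) → L = ⊤) :
    Cfsg.IsNonsplitDoubleCover H K := by
  have hHpos : 0 < Nat.card H := Nat.card_pos
  have hKpos : 0 < Nat.card K := by omega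
  have : Finite K := Nat.finite_of_card_ne_zero (by omega)
  -- ψ is injective
  have hker : ψ.ker = ⊥ := by
    rcases (MonoidHom.normal_ker ψ).eq_bot_or_eq_top with h | h
    · exact h
    · exfalso
      apply hk
      have : k ∈ ψ.ker := by rw [h]; exact Subgroup.mem_top k
      exact this
  have hinj : Function.Injective ψ := (MonoidHom.ker_eq_bot_iff ψ).mp hker
  -- the centre has at least two elements
  have hC2 : 2 ≤ Nat.card (Subgroup.center H) := by
    have : Nontrivial (Subgroup.center H) :=
      ⟨⟨⟨z, hz⟩, 1, fun h => hz1 (congrArg Subtype.val h)⟩⟩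
    exact Finite.one_lt_card
  have hmul : Nat.card H = Nat.card (H ⧸ Subgroup.center H) * Nat.card (Subgroup.center H) :=
    Subgroup.card_eq_card_quotient_mul_card_subgroup _
  have hle : Nat.card K ≤ Nat.card (H ⧸ Subgroup.center H) :=
    Nat.card_le_card_of_injective ψ hinj
  have hQpos : 0 < Nat.card (H ⧸ Subgroup.center H) := Nat.card_pos
  have hC : Nat.card (Subgroup.center H) = 2 := by
    by_contra hne
    have h3 : 3 ≤ Nat.card (Subgroup.center H) := by omega
    have : Nat.card K * 3 ≤ Nat.card (H ⧸ Subgroup.center H) * Nat.card (Subgroup.center H) :=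
      Nat.mul_le_mul hle h3
    omega
  have hQ : Nat.card (H ⧸ Subgroup.center H) = Nat.card K := by
    rw [hC] at hmul
    omega
  have hbij : Function.Bijective ψ := hinj.bijective_of_nat_card_le (le_of_eq hQ)
  refine ⟨hC, ⟨(MulEquiv.ofBijective ψ hbij).symm⟩, ?_⟩
  intro L hL
  have hcm : Nat.card (Subgroup.center H) * Nat.card L = Nat.card H := hL.card_mul_card
  have hidx : L.index = 2 := by
    have h1 : Nat.card L * L.index = Nat.card H := Subgroup.card_mul_index L
    have hLpos : 0 < Nat.card L := Nat.card_pos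
    rw [hC] at hcm
    have : Nat.card L * L.index = Nat.card L * 2 := by rw [h1, ← hcm, mul_comm]
    exact Nat.eq_of_mul_eq_mul_left hLpos this
  have : L.Normal := Subgroup.normal_of_index_eq_two hidx
  have hq2 : Nat.card (H ⧸ L) = 2 := by rw [← Subgroup.index_eq_card]; exact hidx
  have : Fact (Nat.Prime 2) := ⟨Nat.prime_two⟩
  have : IsCyclic (H ⧸ L) := isCyclic_of_prime_card hq2
  have hab : ∀ a b : H ⧸ L, a * b = b * a := fun a b => (IsCyclic.isMulCommutative (α := H ⧸ L)).is_comm.comm a b
  have hLtop : L = ⊤ := hperf L hab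
  rw [hLtop, Subgroup.index_top] at hidx
  omega

/-- involutions in an abelian group subject to the braid relations of `Y₃₃₂` and to
`(a b c d e f h)^9 = 1` are trivial -/
theorem cox_abelian_trivial {A : Type*} [Group A] (hcomm : ∀ a b : A, a * b = b * a)
    (t : Cfsg.Spor.Fi22.Gen → A)
    (hsq : ∀ x, t x * t x = 1)
    (hbr : ∀ x y, Cfsg.Spor.coxLabel Cfsg.Spor.Fi22.edges x y = 3 → (t x * t y) ^ 3 = 1)
    (hrel : (t .a * t .b * t .c * t .d * t .e * t .f * t .h) ^ 9 = 1) : ∀ x, t x = 1 := by
  have h3 : ∀ x, t x ^ 3 = t x := by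
    intro x
    rw [pow_succ, pow_two, hsq, one_mul]
  have hinv : ∀ x, (t x)⁻¹ = t x := fun x => inv_eq_of_mul_eq_one_left (hsq x)
  have key : ∀ x y, Cfsg.Spor.coxLabel Cfsg.Spor.Fi22.edges x y = 3 → t x = t y := by
    intro x y h
    have := hbr x y h
    rw [Commute.mul_pow (hcomm (t x) (t y)), h3, h3] at this
    rw [← hinv y]
    exact eq_inv_of_mul_eq_one_left this
  have hab := key .a .b (by decide)
  have hbc := key .b .c (by decide)
  have hcd := key .c .d (by decide)
  have hde := key .d .e (by decide)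
  have hef := key .e .f (by decide)
  have hfg := key .f .g (by decide)
  have hdh := key .d .h (by decide)
  have hhi := key .h .i (by decide)
  have hs := hsq .d
  rw [hab, hbc, hcd, ← hdh, ← hef, ← hde] at hrel
  have e7 : t .d * t .d * t .d * t .d * t .d * t .d * t .d = t .d := by
    rw [hs, one_mul, hs, one_mul, hs, one_mul]
  rw [e7] at hrel
  have e9 : t .d ^ 9 = t .d := by
    rw [show 9 = 2 * 4 + 1 from rfl, pow_succ, pow_mul, pow_two, hs, one_pow, one_mul]
  rw [e9] at hrel
  intro x
  cases x
  · rw [hab, hbc, hcd, hrel]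
  · rw [hbc, hcd, hrel]
  · rw [hcd, hrel]
  · exact hrel
  · rw [← hde, hrel]
  · rw [← hef, ← hde, hrel]
  · rw [← hfg, ← hef, ← hde, hrel]
  · rw [← hdh, hrel]
  · rw [← hhi, ← hdh, hrel]

end Cfsg.Agent.Helper27.Fi23Cover
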