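import Cfsg.Agent.Lib.Helper27.Fi23.Simple
import Cfsg.Agent.Lib.Helper27.Fi22.Simple
import Cfsg.Agent.Lib.Helper27.Fi23.CoverGen

/-!
# `⟨a,…,i⟩ ≤ Fi23` is a non-split double cover of the presented `Fi22`

The subgroup `H = ⟨a,…,i⟩` of the presented `Fi23` has order `2 * |Fi22|` (index `31671`,
statement S1689, and the order of `Fi23`), its generators satisfy the relators of `Fi22` up to the
central involution `z = (b c d e f g h)^9`, the presented `Fi22` is simple, and `H` has no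
abelian quotient because of the relator `(a b c d e f h)^9` of odd length.
-/

set_option autoImplicit false
set_option maxRecDepth 100000

namespace Cfsg.Agent.Helper27.Fi23Cover

open Cfsg.Agent.Helper27.Fi23 (H89 S89 rels zG uE phi σ σW wz uG F)

noncomputable section

/-- the renaming of generators `Fi22 → Fi23` -/
abbrev ren := Cfsg.Agent.Helper27.Fi23Tower.ren

/-- the images in `Fi23` of the generators of `Fi22` -/
def gG (x : Cfsg.Spor.Fi22.Gen) : Cfsg.Spor.Fi23 := PresentedGroup.of (ren x)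

theorem gG_mem (x : Cfsg.Spor.Fi22.Gen) : gG x ∈ H89 := by
  refine ⟨FreeGroup.of (ren x), Subgroup.subset_closure ?_, rfl⟩
  cases x <;> simp [Cfsg.Agent.Helper27.Fi23Tower.ren]

/-- the same images as elements of the subgroup -/
def gH (x : Cfsg.Spor.Fi22.Gen) : ↥H89 := ⟨gG x, gG_mem x⟩

theorem label_ren (x y : Cfsg.Spor.Fi22.Gen) :
    Cfsg.Spor.coxLabel Cfsg.Spor.Fi23.edges (ren x) (ren y) =
      Cfsg.Spor.coxLabel Cfsg.Spor.Fi22.edges x y := by
  cases x <;> cases y <;> rfl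

theorem gG_sq (x : Cfsg.Spor.Fi22.Gen) : gG x * gG x = 1 :=
  Cfsg.Agent.Helper92.Fi23Perf.of_mul_self (ren x)

theorem gG_pow (x y : Cfsg.Spor.Fi22.Gen) :
    (gG x * gG y) ^ Cfsg.Spor.coxLabel Cfsg.Spor.Fi22.edges x y = 1 := by
  rw [← label_ren]
  exact Cfsg.Agent.Helper92.Fi23Perf.of_pow_label (ren x) (ren y)

theorem gG_spider : (gG .d * gG .c * gG .b * gG .d * gG .e * gG .f * gG .d * gG .h * gG .i) ^ 10
    = 1 := by
  have h : (Cfsg.Spor.Fi23.d * Cfsg.Spor.Fi23.c * Cfsg.Spor.Fi23.b * Cfsg.Spor.Fi23.d *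
      Cfsg.Spor.Fi23.e * Cfsg.Spor.Fi23.f * Cfsg.Spor.Fi23.d * Cfsg.Spor.Fi23.h *
      Cfsg.Spor.Fi23.i) ^ 10 ∈ rels := Or.inr (List.mem_cons_self)
  have h1 := PresentedGroup.one_of_mem h
  rw [map_pow] at h1
  simp only [map_mul] at h1
  exact h1

theorem gG_rel9 : (gG .a * gG .b * gG .c * gG .d * gG .e * gG .f * gG .h) ^ 9 = 1 := by
  have h : (Cfsg.Spor.Fi23.a * Cfsg.Spor.Fi23.b * Cfsg.Spor.Fi23.c * Cfsg.Spor.Fi23.d *
      Cfsg.Spor.Fi23.e * Cfsg.Spor.Fi23.f * Cfsg.Spor.Fi23.h) ^ 9 ∈ rels :=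
    Or.inr (List.mem_cons_of_mem _ List.mem_cons_self)
  have h1 := PresentedGroup.one_of_mem h
  rw [map_pow] at h1
  simp only [map_mul] at h1
  exact h1

theorem gG_z : (gG .b * gG .c * gG .d * gG .e * gG .f * gG .g * gG .h) ^ 9 = zG := by
  unfold zG
  rw [map_pow]
  simp only [map_mul]
  rfl

theorem lift_gG_rel : ∀ r ∈ (Cfsg.Spor.coxRelators Cfsg.Spor.Fi22.edges ∪
    {r | r ∈ Cfsg.Spor.Fi22.extra} : Set (FreeGroup Cfsg.Spor.Fi22.Gen)),
    FreeGroup.lift gG r = 1 ∨ FreeGroup.lift gG r = zG := by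
  rintro r (⟨x, _, y, _, rfl⟩ | hr)
  · left
    rw [map_pow, map_mul, FreeGroup.lift_apply_of, FreeGroup.lift_apply_of]
    exact gG_pow x y
  · have hr' : r ∈ Cfsg.Spor.Fi22.extra := hr
    simp only [Cfsg.Spor.Fi22.extra, List.mem_cons, List.not_mem_nil, or_false] at hr'
    rcases hr' with rfl | rfl | rfl
    · left
      rw [map_pow]
      simp only [map_mul, FreeGroup.lift_apply_of]
      exact gG_spider
    · left
      rw [map_pow]
      simp only [map_mul, FreeGroup.lift_apply_of]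
      exact gG_rel9
    · right
      rw [map_pow]
      simp only [map_mul, FreeGroup.lift_apply_of]
      exact gG_z

theorem coe_lift_gH (r : FreeGroup Cfsg.Spor.Fi22.Gen) :
    ((FreeGroup.lift gH r : ↥H89) : Cfsg.Spor.Fi23) = FreeGroup.lift gG r := by
  have h : (H89.subtype).comp (FreeGroup.lift gH) = FreeGroup.lift gG :=
    FreeGroup.ext_hom _ _ (fun x => by simp [gH])
  exact DFunLike.congr_fun h r

/-- images of the generators in the central quotient -/
def fQ (x : Cfsg.Spor.Fi22.Gen) : ↥H89 ⧸ Subgroup.center ↥H89 := QuotientGroup.mk (gH x)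

theorem lift_fQ (r : FreeGroup Cfsg.Spor.Fi22.Gen) :
    FreeGroup.lift fQ r = QuotientGroup.mk' (Subgroup.center ↥H89) (FreeGroup.lift gH r) := by
  have h : FreeGroup.lift fQ = (QuotientGroup.mk' (Subgroup.center ↥H89)).comp (FreeGroup.lift gH) :=
    FreeGroup.ext_hom _ _ (fun x => by simp [fQ])
  exact DFunLike.congr_fun h r

theorem fQ_rel (h89 : Cfsg.Agent.Helper27.Fi23Tower.Stmt89) :
    ∀ r ∈ (Cfsg.Spor.coxRelators Cfsg.Spor.Fi22.edges ∪
      {r | r ∈ Cfsg.Spor.Fi22.extra} : Set (FreeGroup Cfsg.Spor.Fi22.Gen)),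
    FreeGroup.lift fQ r = 1 := by
  intro r hr
  rw [lift_fQ, QuotientGroup.mk'_apply, QuotientGroup.eq_one_iff, Subgroup.mem_center_iff]
  rintro ⟨h, hh⟩
  apply Subtype.ext
  rw [Subgroup.coe_mul, Subgroup.coe_mul, coe_lift_gH]
  rcases lift_gG_rel r hr with e | e
  · rw [e, mul_one, one_mul]
  · rw [e]
    exact Cfsg.Agent.Helper27.Fi23.H89_comm h89 h hh

/-- the homomorphism from the presented `Fi22` to the central quotient of `H89` -/
def psi (h89 : Cfsg.Agent.Helper27.Fi23Tower.Stmt89) :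
    Cfsg.Spor.Fi22 →* ↥H89 ⧸ Subgroup.center ↥H89 :=
  PresentedGroup.toGroup (fQ_rel h89)

theorem chk_ab : Nat.beq (F .a (F .b 6)) (F .b (F .a 6)) = false := by decide +kernel

theorem chk_j0 : Nat.beq (F .j 0) 0 = false := by decide +kernel

theorem gG_ab_ne : gG .a * gG .b ≠ gG .b * gG .a := by
  intro h
  have h1 := congrArg phi h
  rw [map_mul, map_mul] at h1
  have ha : phi (gG .a) = σ .a := Cfsg.Agent.Helper27.Fi23.phi_of _
  have hb : phi (gG .b) = σ .b := Cfsg.Agent.Helper27.Fi23.phi_of _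
  rw [ha, hb] at h1
  have h2 := congrArg (fun τ : Equiv.Perm (Fin 31671) => (τ ⟨6, by norm_num⟩).val) h1
  simp only [Equiv.Perm.mul_apply, Cfsg.Agent.Helper27.Fi23.σ_val] at h2
  have h3 := chk_ab
  rw [h2] at h3
  simp at h3

theorem psi_ne (h89 : Cfsg.Agent.Helper27.Fi23Tower.Stmt89) :
    psi h89 (PresentedGroup.of Cfsg.Spor.Fi22.Gen.a) ≠ 1 := by
  intro h
  have h1 : psi h89 (PresentedGroup.of Cfsg.Spor.Fi22.Gen.a) = fQ .a := PresentedGroup.toGroup.of _
  rw [h1] at h
  unfold fQ at h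
  rw [QuotientGroup.eq_one_iff, Subgroup.mem_center_iff] at h
  have h2 := h (gH .b)
  apply gG_ab_ne
  have h3 := congrArg Subtype.val h2
  rw [Subgroup.coe_mul, Subgroup.coe_mul] at h3
  exact h3.symm

theorem zG_ne_one : zG ≠ 1 := by
  intro h
  have h1 : phi zG = 1 := by rw [h, map_one]
  rw [Cfsg.Agent.Helper27.Fi23.phi_z] at h1
  have h2 := Cfsg.Agent.Helper27.Fi23.u_conj
  rw [h1, mul_one] at h2
  have h3 : σ .j = 1 := by
    have := congrArg (fun τ => τ * (σW uG)⁻¹) h2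
    simp only [mul_inv_cancel, mul_assoc, mul_one] at this
    exact this.symm
  have h4 := congrArg (fun τ : Equiv.Perm (Fin 31671) => (τ ⟨0, by norm_num⟩).val) h3
  simp only [Cfsg.Agent.Helper27.Fi23.σ_val, Equiv.Perm.one_apply] at h4
  have h5 := chk_j0
  rw [h4] at h5
  simp at h5

theorem zG_mem : zG ∈ H89 := by
  rw [← gG_z]
  exact H89.pow_mem (H89.mul_mem (H89.mul_mem (H89.mul_mem (H89.mul_mem (H89.mul_mem (H89.mul_mem
    (gG_mem .b) (gG_mem .c)) (gG_mem .d)) (gG_mem .e)) (gG_mem .f)) (gG_mem .g)) (gG_mem .h)) 9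

/-- the central involution as an element of `H89` -/
def zH : ↥H89 := ⟨zG, zG_mem⟩

theorem zH_center (h89 : Cfsg.Agent.Helper27.Fi23Tower.Stmt89) : zH ∈ Subgroup.center ↥H89 := by
  rw [Subgroup.mem_center_iff]
  rintro ⟨h, hh⟩
  apply Subtype.ext
  rw [Subgroup.coe_mul, Subgroup.coe_mul]
  exact Cfsg.Agent.Helper27.Fi23.H89_comm h89 h hh

theorem zH_ne_one : zH ≠ 1 := fun h => zG_ne_one (congrArg Subtype.val h)

theorem card_H89 (h89 : Cfsg.Agent.Helper27.Fi23Tower.Stmt89) :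
    Nat.card ↥H89 = 2 * Nat.card Cfsg.Spor.Fi22 := by
  have h1 : Nat.card ↥H89 * H89.index = Nat.card Cfsg.Spor.Fi23 := Subgroup.card_mul_index H89
  have h2 : H89.index = 31671 := h89.1
  rw [h2, Cfsg.Agent.Helper27.Fi23.card_eq h89] at h1
  rw [Cfsg.Agent.Helper27.Fi22.card_eq]
  omega

theorem top_of_gens (L : Subgroup ↥H89) (hL : ∀ x, gH x ∈ L) : L = ⊤ := by
  have key : ∀ w (hw : w ∈ Subgroup.closure S89),
      (⟨PresentedGroup.mk rels w, Subgroup.mem_map_of_mem _ hw⟩ : ↥H89) ∈ L := by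
    intro w hw
    induction hw using Subgroup.closure_induction with
    | mem s hs =>
      simp only [Set.mem_insert_iff, Set.mem_singleton_iff] at hs
      rcases hs with rfl | rfl | rfl | rfl | rfl | rfl | rfl | rfl | rfl
      · exact hL .a
      · exact hL .b
      · exact hL .c
      · exact hL .d
      · exact hL .e
      · exact hL .f
      · exact hL .g
      · exact hL .h
      · exact hL .i
    | one =>
      have : (⟨PresentedGroup.mk rels 1, Subgroup.mem_map_of_mem _ (Subgroup.one_mem _)⟩ : ↥H89) = 1 :=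
        Subtype.ext (map_one _)
      rw [this]
      exact L.one_mem
    | mul a b ha hb iha ihb =>
      have : (⟨PresentedGroup.mk rels (a * b), Subgroup.mem_map_of_mem _ (Subgroup.mul_mem _ ha hb)⟩ : ↥H89)
          = ⟨PresentedGroup.mk rels a, Subgroup.mem_map_of_mem _ ha⟩ *
            ⟨PresentedGroup.mk rels b, Subgroup.mem_map_of_mem _ hb⟩ :=
        Subtype.ext (map_mul _ _ _)
      rw [this]
      exact L.mul_mem iha ihb
    | inv a ha iha =>
      have : (⟨PresentedGroup.mk rels a⁻¹, Subgroup.mem_map_of_mem _ (Subgroup.inv_mem _ ha)⟩ : ↥H89)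
          = (⟨PresentedGroup.mk rels a, Subgroup.mem_map_of_mem _ ha⟩ : ↥H89)⁻¹ :=
        Subtype.ext (map_inv _ _)
      rw [this]
      exact L.inv_mem iha
  rw [eq_top_iff]
  rintro ⟨h, hh⟩ _
  obtain ⟨w, hw, rfl⟩ := hh
  exact key w hw

theorem no_abelian_quotient (L : Subgroup ↥H89) [L.Normal]
    (hab : ∀ a b : ↥H89 ⧸ L, a * b = b * a) : L = ⊤ := by
  apply top_of_gens
  have ht := cox_abelian_trivial hab (fun x => (QuotientGroup.mk (gH x) : ↥H89 ⧸ L))
    (fun x => by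
      show (QuotientGroup.mk (gH x * gH x) : ↥H89 ⧸ L) = 1
      have : gH x * gH x = 1 := Subtype.ext (gG_sq x)
      rw [this]
      rfl)
    (fun x y h => by
      show (QuotientGroup.mk ((gH x * gH y) ^ 3) : ↥H89 ⧸ L) = 1
      have : (gH x * gH y) ^ 3 = 1 := by
        apply Subtype.ext
        rw [Subgroup.coe_pow, Subgroup.coe_mul]
        have := gG_pow x y
        rw [h] at this
        exact this
      rw [this]
      rfl)
    (by
      show (QuotientGroup.mk ((gH .a * gH .b * gH .c * gH .d * gH .e * gH .f * gH .h) ^ 9) : ↥H89 ⧸ L) = 1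
      have : (gH .a * gH .b * gH .c * gH .d * gH .e * gH .f * gH .h) ^ 9 = 1 := by
        apply Subtype.ext
        rw [Subgroup.coe_pow]
        simp only [Subgroup.coe_mul]
        exact gG_rel9
      rw [this]
      rfl)
  intro x
  exact (QuotientGroup.eq_one_iff _).mp (ht x)

/-- statement S1688, given statement S1689 -/
theorem cover (h89 : Cfsg.Agent.Helper27.Fi23Tower.Stmt89) :
    Cfsg.IsNonsplitDoubleCover ↥H89 Cfsg.Spor.Fi22 := by
  have := Cfsg.Agent.Helper27.Fi23.finite_Fi23 h89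
  have : IsSimpleGroup Cfsg.Spor.Fi22 := Cfsg.Agent.Helper27.Fi22.simple_Fi22
  exact isNonsplitDoubleCover_of (psi h89) (PresentedGroup.of Cfsg.Spor.Fi22.Gen.a) (psi_ne h89)
    (card_H89 h89) zH (zH_center h89) zH_ne_one (fun L _ hab => no_abelian_quotient L hab)

end

end Cfsg.Agent.Helper27.Fi23Cover
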