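import Cfsg.Agent.Lib.Helper27.Fi23.Model

/-! Kernel checks of the involution and Coxeter relators of the 31671-point model of Fi23. -/

set_option autoImplicit false
set_option maxRecDepth 100000
set_option Elab.async false

namespace Cfsg.Agent.Helper27.Fi23

open Cfsg.Spor.Fi23 (Gen)
open Cfsg.Agent.Helper27 (BT)

theorem inv_b_0 : allRange (involP .b) (0 * 31671) 31671 = true := by decide +kernel
theorem cx_b_b_0 : allRange (coxP .b .b) (0 * 10557) 10557 = true := by decide +kernel
theorem cx_b_b_1 : allRange (coxP .b .b) (1 * 10557) 10557 = true := by decide +kernel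
theorem cx_b_b_2 : allRange (coxP .b .b) (2 * 10557) 10557 = true := by decide +kernel
theorem cx_b_c_0 : allRange (coxP .b .c) (0 * 10557) 10557 = true := by decide +kernel
theorem cx_b_c_1 : allRange (coxP .b .c) (1 * 10557) 10557 = true := by decide +kernel
theorem cx_b_c_2 : allRange (coxP .b .c) (2 * 10557) 10557 = true := by decide +kernel
theorem cx_b_d_0 : allRange (coxP .b .d) (0 * 10557) 10557 = true := by decide +kernel
theorem cx_b_d_1 : allRange (coxP .b .d) (1 * 10557) 10557 = true := by decide +kernel
theorem cx_b_d_2 : allRange (coxP .b .d) (2 * 10557) 10557 = true := by decide +kernel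
theorem cx_b_e_0 : allRange (coxP .b .e) (0 * 10557) 10557 = true := by decide +kernel
theorem cx_b_e_1 : allRange (coxP .b .e) (1 * 10557) 10557 = true := by decide +kernel
theorem cx_b_e_2 : allRange (coxP .b .e) (2 * 10557) 10557 = true := by decide +kernel
theorem cx_b_f_0 : allRange (coxP .b .f) (0 * 10557) 10557 = true := by decide +kernel
theorem cx_b_f_1 : allRange (coxP .b .f) (1 * 10557) 10557 = true := by decide +kernel
theorem cx_b_f_2 : allRange (coxP .b .f) (2 * 10557) 10557 = true := by decide +kernel
theorem cx_b_g_0 : allRange (coxP .b .g) (0 * 10557) 10557 = true := by decide +kernel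
theorem cx_b_g_1 : allRange (coxP .b .g) (1 * 10557) 10557 = true := by decide +kernel
theorem cx_b_g_2 : allRange (coxP .b .g) (2 * 10557) 10557 = true := by decide +kernel
theorem cx_b_j_0 : allRange (coxP .b .j) (0 * 10557) 10557 = true := by decide +kernel
theorem cx_b_j_1 : allRange (coxP .b .j) (1 * 10557) 10557 = true := by decide +kernel
theorem cx_b_j_2 : allRange (coxP .b .j) (2 * 10557) 10557 = true := by decide +kernel
theorem cx_b_h_0 : allRange (coxP .b .h) (0 * 10557) 10557 = true := by decide +kernel
theorem cx_b_h_1 : allRange (coxP .b .h) (1 * 10557) 10557 = true := by decide +kernel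
theorem cx_b_h_2 : allRange (coxP .b .h) (2 * 10557) 10557 = true := by decide +kernel
theorem cx_b_i_0 : allRange (coxP .b .i) (0 * 10557) 10557 = true := by decide +kernel
theorem cx_b_i_1 : allRange (coxP .b .i) (1 * 10557) 10557 = true := by decide +kernel
theorem cx_b_i_2 : allRange (coxP .b .i) (2 * 10557) 10557 = true := by decide +kernel

end Cfsg.Agent.Helper27.Fi23
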