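import Cfsg.Agent.Lib.Helper27.Fi23.Model

/-! Kernel checks of the involution and Coxeter relators of the 31671-point model of Fi23. -/

set_option autoImplicit false
set_option maxRecDepth 100000
set_option Elab.async false

namespace Cfsg.Agent.Helper27.Fi23

open Cfsg.Spor.Fi23 (Gen)
open Cfsg.Agent.Helper27 (BT)

theorem inv_g_0 : allRange (involP .g) (0 * 31671) 31671 = true := by decide +kernel
theorem cx_g_g_0 : allRange (coxP .g .g) (0 * 10557) 10557 = true := by decide +kernel
theorem cx_g_g_1 : allRange (coxP .g .g) (1 * 10557) 10557 = true := by decide +kernel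
theorem cx_g_g_2 : allRange (coxP .g .g) (2 * 10557) 10557 = true := by decide +kernel
theorem cx_g_j_0 : allRange (coxP .g .j) (0 * 10557) 10557 = true := by decide +kernel
theorem cx_g_j_1 : allRange (coxP .g .j) (1 * 10557) 10557 = true := by decide +kernel
theorem cx_g_j_2 : allRange (coxP .g .j) (2 * 10557) 10557 = true := by decide +kernel
theorem cx_g_h_0 : allRange (coxP .g .h) (0 * 10557) 10557 = true := by decide +kernel
theorem cx_g_h_1 : allRange (coxP .g .h) (1 * 10557) 10557 = true := by decide +kernel
theorem cx_g_h_2 : allRange (coxP .g .h) (2 * 10557) 10557 = true := by decide +kernel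
theorem cx_g_i_0 : allRange (coxP .g .i) (0 * 10557) 10557 = true := by decide +kernel
theorem cx_g_i_1 : allRange (coxP .g .i) (1 * 10557) 10557 = true := by decide +kernel
theorem cx_g_i_2 : allRange (coxP .g .i) (2 * 10557) 10557 = true := by decide +kernel

end Cfsg.Agent.Helper27.Fi23
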