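import Cfsg.Agent.Lib.Helper27.Fi23.ModelAll

/-!
# The homomorphism from the presented Fi23 to `Perm (Fin 31671)`
-/

set_option autoImplicit false

namespace Cfsg.Agent.Helper27.Fi23

open Cfsg.Spor.Fi23 (Gen)
open Cfsg.Agent.Helper27 (BT)

noncomputable section

theorem NP_eq : NP = 31671 := rfl

theorem F_lt (x : Gen) {p : Nat} (hp : p < 31671) : F x p < 31671 := by
  have h := involP_all x p hp
  have h1 := (andB_eq_true h).1
  have := Nat.ble_eq.mp h1
  simp only [NP_eq] at this
  omega

theorem F_F (x : Gen) {p : Nat} (hp : p < 31671) : F x (F x p) = p := by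
  have h := involP_all x p hp
  exact Nat.eq_of_beq_eq_true (andB_eq_true h).2

/-- the permutation of a generator -/
def σ (x : Gen) : Equiv.Perm (Fin 31671) where
  toFun p := ⟨F x p, F_lt x p.2⟩
  invFun p := ⟨F x p, F_lt x p.2⟩
  left_inv p := Fin.ext (F_F x p.2)
  right_inv p := Fin.ext (F_F x p.2)

@[simp] theorem σ_val (x : Gen) (p : Fin 31671) : (σ x p).val = F x p.val := rfl

theorem pow_val (τ : Equiv.Perm (Fin 31671)) (f : Nat → Nat)
    (h : ∀ p : Fin 31671, (τ p).val = f p.val) (n : Nat) (p : Fin 31671) :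
    ((τ ^ n) p).val = iter f n p.val := by
  induction n generalizing p with
  | zero => rfl
  | succ n ih =>
    rw [pow_succ, Equiv.Perm.mul_apply, ih, h]
    rfl

theorem pow_eq_one_of_iter (τ : Equiv.Perm (Fin 31671)) (f : Nat → Nat)
    (h : ∀ p : Fin 31671, (τ p).val = f p.val) (n : Nat)
    (hn : ∀ p, p < 31671 → iter f n p = p) : τ ^ n = 1 := by
  ext p
  rw [pow_val τ f h n p, hn p.val p.2]
  rfl

theorem cox_rel_le (x y : Gen) (hxy : gIdx x ≤ gIdx y) : (σ x * σ y) ^ lab x y = 1 := by
  apply pow_eq_one_of_iter (σ x * σ y) (fun q => F x (F y q)) (fun p => rfl)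
  intro p hp
  exact Nat.eq_of_beq_eq_true (coxP_all x y hxy p hp)

theorem cox_rel (x y : Gen) : (σ x * σ y) ^ (Cfsg.Spor.coxLabel Cfsg.Spor.Fi23.edges x y) = 1 := by
  rw [lab_eq]
  rcases Nat.le_total (gIdx x) (gIdx y) with h | h
  · exact cox_rel_le x y h
  · have h1 := cox_rel_le y x h
    rw [lab_symm x y]
    have h2 : σ x * σ y = σ x * (σ y * σ x) * (σ x)⁻¹ := by group
    rw [h2, conj_pow, h1]
    group

/-- the permutation of a word -/
def σW (w : List Gen) : Equiv.Perm (Fin 31671) := (w.map σ).prod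

theorem σW_val (w : List Gen) (p : Fin 31671) : (σW w p).val = actW w p.val := by
  induction w generalizing p with
  | nil => rfl
  | cons x w ih =>
    show ((σ x * σW w) p).val = _
    rw [Equiv.Perm.mul_apply, σ_val, ih]
    rfl

theorem w1_rel : σW w1 ^ 10 = 1 :=
  pow_eq_one_of_iter _ (actW w1) (σW_val w1) 10 fun p hp =>
    Nat.eq_of_beq_eq_true (w1p_all p hp)

theorem w2_rel : σW w2 ^ 9 = 1 :=
  pow_eq_one_of_iter _ (actW w2) (σW_val w2) 9 fun p hp =>
    Nat.eq_of_beq_eq_true (w2p_all p hp)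

/-- the relators of the presentation -/
abbrev rels : Set (FreeGroup Gen) :=
  Cfsg.Spor.coxRelators Cfsg.Spor.Fi23.edges ∪ {r | r ∈ Cfsg.Spor.Fi23.extra}

theorem hrel : ∀ r ∈ rels, FreeGroup.lift σ r = 1 := by
  intro r hr
  rcases hr with ⟨x, _, y, _, rfl⟩ | hr
  · rw [map_pow, map_mul, FreeGroup.lift_apply_of, FreeGroup.lift_apply_of]
    exact cox_rel x y
  · have hr' : r ∈ Cfsg.Spor.Fi23.extra := hr
    simp only [Cfsg.Spor.Fi23.extra, List.mem_cons, List.not_mem_nil, or_false] at hr'
    rcases hr' with rfl | rfl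
    · simp only [map_pow, map_mul, FreeGroup.lift_apply_of]
      have := w1_rel
      simpa [σW, w1, mul_assoc] using this
    · simp only [map_pow, map_mul, FreeGroup.lift_apply_of]
      have := w2_rel
      simpa [σW, w2, mul_assoc] using this

/-- the permutation representation of the presented group -/
def phi : Cfsg.Spor.Fi23 →* Equiv.Perm (Fin 31671) := PresentedGroup.toGroup hrel

theorem phi_of (x : Gen) : phi (PresentedGroup.of x) = σ x := PresentedGroup.toGroup.of hrel

theorem phi_mk' (r : FreeGroup Gen) : phi (PresentedGroup.mk rels r) = FreeGroup.lift σ r := rfl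

end

end Cfsg.Agent.Helper27.Fi23
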