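import Cfsg.Agent.Lib.Helper27.Fi23.ChkT_0
import Cfsg.Agent.Lib.Helper27.Fi23.ChkT_1
import Cfsg.Agent.Lib.Helper27.Fi23.ChkT_2
import Cfsg.Agent.Lib.Helper27.Fi23.ChkT_3
import Cfsg.Agent.Lib.Helper27.Fi23.ChkT_4
import Cfsg.Agent.Lib.Helper27.Fi23.ChkT_5
import Cfsg.Agent.Lib.Helper27.Fi23.ChkW_0
import Cfsg.Agent.Lib.Helper27.Fi23.ChkW_1
import Cfsg.Agent.Lib.Helper27.Fi23.ChkW_2
import Cfsg.Agent.Lib.Helper27.Fi23.ChkW_3
import Cfsg.Agent.Lib.Helper27.Fi23.ChkW_4
import Cfsg.Agent.Lib.Helper27.Fi23.ChkW_5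
import Cfsg.Agent.Lib.Helper27.Fi23.ChkW_6
import Cfsg.Agent.Lib.Helper27.Fi23.ChkW_7
import Cfsg.Agent.Lib.Helper27.Fi23.ChkO_0
import Cfsg.Agent.Lib.Helper27.Fi23.ChkO_1
import Cfsg.Agent.Lib.Helper27.Fi23.ChkO_2
import Cfsg.Agent.Lib.Helper27.Fi23.ChkC

/-! Assembly of the kernel checks of the stabilizer chain of the 31671-point model of Fi23. -/

set_option autoImplicit false
set_option maxRecDepth 100000

namespace Cfsg.Agent.Helper27.Fi23

open Cfsg.Spor.Fi23 (Gen)
open Cfsg.Agent.Helper27 (BT)

noncomputable section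

theorem tabP_0 : ∀ p, p < 31671 → tabP 0 p = true :=
  allRange_cover _ 31671 10557 3 (by norm_num) (by norm_num) (fun i hi => by
    match i, hi with
    | 0, _ => exact tp_0_0
    | 1, _ => exact tp_0_1
    | 2, _ => exact tp_0_2
    | (k + 3), h => omega)

theorem tabP_1 : ∀ p, p < 31671 → tabP 1 p = true :=
  allRange_cover _ 31671 10557 3 (by norm_num) (by norm_num) (fun i hi => by
    match i, hi with
    | 0, _ => exact tp_1_0
    | 1, _ => exact tp_1_1
    | 2, _ => exact tp_1_2
    | (k + 3), h => omega)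

theorem tabP_2 : ∀ p, p < 31671 → tabP 2 p = true :=
  allRange_cover _ 31671 10557 3 (by norm_num) (by norm_num) (fun i hi => by
    match i, hi with
    | 0, _ => exact tp_2_0
    | 1, _ => exact tp_2_1
    | 2, _ => exact tp_2_2
    | (k + 3), h => omega)

theorem tabP_3 : ∀ p, p < 31671 → tabP 3 p = true :=
  allRange_cover _ 31671 10557 3 (by norm_num) (by norm_num) (fun i hi => by
    match i, hi with
    | 0, _ => exact tp_3_0
    | 1, _ => exact tp_3_1
    | 2, _ => exact tp_3_2
    | (k + 3), h => omega)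

theorem tabP_4 : ∀ p, p < 31671 → tabP 4 p = true :=
  allRange_cover _ 31671 10557 3 (by norm_num) (by norm_num) (fun i hi => by
    match i, hi with
    | 0, _ => exact tp_4_0
    | 1, _ => exact tp_4_1
    | 2, _ => exact tp_4_2
    | (k + 3), h => omega)

theorem tabP_5 : ∀ p, p < 31671 → tabP 5 p = true :=
  allRange_cover _ 31671 10557 3 (by norm_num) (by norm_num) (fun i hi => by
    match i, hi with
    | 0, _ => exact tp_5_0
    | 1, _ => exact tp_5_1
    | 2, _ => exact tp_5_2
    | (k + 3), h => omega)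

theorem tabP_6 : ∀ p, p < 31671 → tabP 6 p = true :=
  allRange_cover _ 31671 10557 3 (by norm_num) (by norm_num) (fun i hi => by
    match i, hi with
    | 0, _ => exact tp_6_0
    | 1, _ => exact tp_6_1
    | 2, _ => exact tp_6_2
    | (k + 3), h => omega)

theorem tabP_7 : ∀ p, p < 31671 → tabP 7 p = true :=
  allRange_cover _ 31671 10557 3 (by norm_num) (by norm_num) (fun i hi => by
    match i, hi with
    | 0, _ => exact tp_7_0
    | 1, _ => exact tp_7_1
    | 2, _ => exact tp_7_2
    | (k + 3), h => omega)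

theorem tabP_8 : ∀ p, p < 31671 → tabP 8 p = true :=
  allRange_cover _ 31671 10557 3 (by norm_num) (by norm_num) (fun i hi => by
    match i, hi with
    | 0, _ => exact tp_8_0
    | 1, _ => exact tp_8_1
    | 2, _ => exact tp_8_2
    | (k + 3), h => omega)

theorem tabP_9 : ∀ p, p < 31671 → tabP 9 p = true :=
  allRange_cover _ 31671 10557 3 (by norm_num) (by norm_num) (fun i hi => by
    match i, hi with
    | 0, _ => exact tp_9_0
    | 1, _ => exact tp_9_1
    | 2, _ => exact tp_9_2
    | (k + 3), h => omega)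

theorem tabP_10 : ∀ p, p < 31671 → tabP 10 p = true :=
  allRange_cover _ 31671 10557 3 (by norm_num) (by norm_num) (fun i hi => by
    match i, hi with
    | 0, _ => exact tp_10_0
    | 1, _ => exact tp_10_1
    | 2, _ => exact tp_10_2
    | (k + 3), h => omega)

theorem tabP_11 : ∀ p, p < 31671 → tabP 11 p = true :=
  allRange_cover _ 31671 10557 3 (by norm_num) (by norm_num) (fun i hi => by
    match i, hi with
    | 0, _ => exact tp_11_0
    | 1, _ => exact tp_11_1
    | 2, _ => exact tp_11_2
    | (k + 3), h => omega)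

theorem tabP_12 : ∀ p, p < 31671 → tabP 12 p = true :=
  allRange_cover _ 31671 10557 3 (by norm_num) (by norm_num) (fun i hi => by
    match i, hi with
    | 0, _ => exact tp_12_0
    | 1, _ => exact tp_12_1
    | 2, _ => exact tp_12_2
    | (k + 3), h => omega)

theorem tabP_13 : ∀ p, p < 31671 → tabP 13 p = true :=
  allRange_cover _ 31671 10557 3 (by norm_num) (by norm_num) (fun i hi => by
    match i, hi with
    | 0, _ => exact tp_13_0
    | 1, _ => exact tp_13_1
    | 2, _ => exact tp_13_2
    | (k + 3), h => omega)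

theorem tabP_14 : ∀ p, p < 31671 → tabP 14 p = true :=
  allRange_cover _ 31671 10557 3 (by norm_num) (by norm_num) (fun i hi => by
    match i, hi with
    | 0, _ => exact tp_14_0
    | 1, _ => exact tp_14_1
    | 2, _ => exact tp_14_2
    | (k + 3), h => omega)

theorem tabP_15 : ∀ p, p < 31671 → tabP 15 p = true :=
  allRange_cover _ 31671 10557 3 (by norm_num) (by norm_num) (fun i hi => by
    match i, hi with
    | 0, _ => exact tp_15_0
    | 1, _ => exact tp_15_1
    | 2, _ => exact tp_15_2
    | (k + 3), h => omega)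

theorem tabP_16 : ∀ p, p < 31671 → tabP 16 p = true :=
  allRange_cover _ 31671 10557 3 (by norm_num) (by norm_num) (fun i hi => by
    match i, hi with
    | 0, _ => exact tp_16_0
    | 1, _ => exact tp_16_1
    | 2, _ => exact tp_16_2
    | (k + 3), h => omega)

theorem tabP_17 : ∀ p, p < 31671 → tabP 17 p = true :=
  allRange_cover _ 31671 10557 3 (by norm_num) (by norm_num) (fun i hi => by
    match i, hi with
    | 0, _ => exact tp_17_0
    | 1, _ => exact tp_17_1
    | 2, _ => exact tp_17_2
    | (k + 3), h => omega)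

theorem tabP_18 : ∀ p, p < 31671 → tabP 18 p = true :=
  allRange_cover _ 31671 10557 3 (by norm_num) (by norm_num) (fun i hi => by
    match i, hi with
    | 0, _ => exact tp_18_0
    | 1, _ => exact tp_18_1
    | 2, _ => exact tp_18_2
    | (k + 3), h => omega)

theorem tabP_19 : ∀ p, p < 31671 → tabP 19 p = true :=
  allRange_cover _ 31671 10557 3 (by norm_num) (by norm_num) (fun i hi => by
    match i, hi with
    | 0, _ => exact tp_19_0
    | 1, _ => exact tp_19_1
    | 2, _ => exact tp_19_2
    | (k + 3), h => omega)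

theorem tabP_20 : ∀ p, p < 31671 → tabP 20 p = true :=
  allRange_cover _ 31671 10557 3 (by norm_num) (by norm_num) (fun i hi => by
    match i, hi with
    | 0, _ => exact tp_20_0
    | 1, _ => exact tp_20_1
    | 2, _ => exact tp_20_2
    | (k + 3), h => omega)

theorem tabP_21 : ∀ p, p < 31671 → tabP 21 p = true :=
  allRange_cover _ 31671 10557 3 (by norm_num) (by norm_num) (fun i hi => by
    match i, hi with
    | 0, _ => exact tp_21_0
    | 1, _ => exact tp_21_1
    | 2, _ => exact tp_21_2
    | (k + 3), h => omega)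

theorem tabP_all : ∀ {k : Nat}, k < 22 → ∀ p, p < 31671 → tabP k p = true
  | 0, _ => tabP_0
  | 1, _ => tabP_1
  | 2, _ => tabP_2
  | 3, _ => tabP_3
  | 4, _ => tabP_4
  | 5, _ => tabP_5
  | 6, _ => tabP_6
  | 7, _ => tabP_7
  | 8, _ => tabP_8
  | 9, _ => tabP_9
  | 10, _ => tabP_10
  | 11, _ => tabP_11
  | 12, _ => tabP_12
  | 13, _ => tabP_13
  | 14, _ => tabP_14
  | 15, _ => tabP_15
  | 16, _ => tabP_16
  | 17, _ => tabP_17
  | 18, _ => tabP_18
  | 19, _ => tabP_19
  | 20, _ => tabP_20
  | 21, _ => tabP_21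
  | (k + 22), h => absurd h (by omega)

theorem wordL_all : ∀ {k : Nat}, 10 ≤ k → k < 22 → wordL k = true
  | 0, h, _ => absurd h (by decide)
  | 1, h, _ => absurd h (by decide)
  | 2, h, _ => absurd h (by decide)
  | 3, h, _ => absurd h (by decide)
  | 4, h, _ => absurd h (by decide)
  | 5, h, _ => absurd h (by decide)
  | 6, h, _ => absurd h (by decide)
  | 7, h, _ => absurd h (by decide)
  | 8, h, _ => absurd h (by decide)
  | 9, h, _ => absurd h (by decide)
  | 10, _, _ => wl_10
  | 11, _, _ => wl_11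
  | 12, _, _ => wl_12
  | 13, _, _ => wl_13
  | 14, _, _ => wl_14
  | 15, _, _ => wl_15
  | 16, _, _ => wl_16
  | 17, _, _ => wl_17
  | 18, _, _ => wl_18
  | 19, _, _ => wl_19
  | 20, _, _ => wl_20
  | 21, _, _ => wl_21
  | (k + 22), _, h => absurd h (by omega)

theorem wordP_10 : ∀ p, p < 31671 → wordP 10 p = true :=
  allRange_cover _ 31671 3519 9 (by norm_num) (by norm_num) (fun i hi => by
    match i, hi with
    | 0, _ => exact wp_10_0
    | 1, _ => exact wp_10_1
    | 2, _ => exact wp_10_2
    | 3, _ => exact wp_10_3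
    | 4, _ => exact wp_10_4
    | 5, _ => exact wp_10_5
    | 6, _ => exact wp_10_6
    | 7, _ => exact wp_10_7
    | 8, _ => exact wp_10_8
    | (k + 9), h => omega)

theorem wordP_11 : ∀ p, p < 31671 → wordP 11 p = true :=
  allRange_cover _ 31671 3519 9 (by norm_num) (by norm_num) (fun i hi => by
    match i, hi with
    | 0, _ => exact wp_11_0
    | 1, _ => exact wp_11_1
    | 2, _ => exact wp_11_2
    | 3, _ => exact wp_11_3
    | 4, _ => exact wp_11_4
    | 5, _ => exact wp_11_5
    | 6, _ => exact wp_11_6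
    | 7, _ => exact wp_11_7
    | 8, _ => exact wp_11_8
    | (k + 9), h => omega)

theorem wordP_12 : ∀ p, p < 31671 → wordP 12 p = true :=
  allRange_cover _ 31671 3519 9 (by norm_num) (by norm_num) (fun i hi => by
    match i, hi with
    | 0, _ => exact wp_12_0
    | 1, _ => exact wp_12_1
    | 2, _ => exact wp_12_2
    | 3, _ => exact wp_12_3
    | 4, _ => exact wp_12_4
    | 5, _ => exact wp_12_5
    | 6, _ => exact wp_12_6
    | 7, _ => exact wp_12_7
    | 8, _ => exact wp_12_8
    | (k + 9), h => omega)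

theorem wordP_13 : ∀ p, p < 31671 → wordP 13 p = true :=
  allRange_cover _ 31671 3519 9 (by norm_num) (by norm_num) (fun i hi => by
    match i, hi with
    | 0, _ => exact wp_13_0
    | 1, _ => exact wp_13_1
    | 2, _ => exact wp_13_2
    | 3, _ => exact wp_13_3
    | 4, _ => exact wp_13_4
    | 5, _ => exact wp_13_5
    | 6, _ => exact wp_13_6
    | 7, _ => exact wp_13_7
    | 8, _ => exact wp_13_8
    | (k + 9), h => omega)

theorem wordP_14 : ∀ p, p < 31671 → wordP 14 p = true :=
  allRange_cover _ 31671 3519 9 (by norm_num) (by norm_num) (fun i hi => by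
    match i, hi with
    | 0, _ => exact wp_14_0
    | 1, _ => exact wp_14_1
    | 2, _ => exact wp_14_2
    | 3, _ => exact wp_14_3
    | 4, _ => exact wp_14_4
    | 5, _ => exact wp_14_5
    | 6, _ => exact wp_14_6
    | 7, _ => exact wp_14_7
    | 8, _ => exact wp_14_8
    | (k + 9), h => omega)

theorem wordP_15 : ∀ p, p < 31671 → wordP 15 p = true :=
  allRange_cover _ 31671 3519 9 (by norm_num) (by norm_num) (fun i hi => by
    match i, hi with
    | 0, _ => exact wp_15_0
    | 1, _ => exact wp_15_1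
    | 2, _ => exact wp_15_2
    | 3, _ => exact wp_15_3
    | 4, _ => exact wp_15_4
    | 5, _ => exact wp_15_5
    | 6, _ => exact wp_15_6
    | 7, _ => exact wp_15_7
    | 8, _ => exact wp_15_8
    | (k + 9), h => omega)

theorem wordP_16 : ∀ p, p < 31671 → wordP 16 p = true :=
  allRange_cover _ 31671 3519 9 (by norm_num) (by norm_num) (fun i hi => by
    match i, hi with
    | 0, _ => exact wp_16_0
    | 1, _ => exact wp_16_1
    | 2, _ => exact wp_16_2
    | 3, _ => exact wp_16_3
    | 4, _ => exact wp_16_4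
    | 5, _ => exact wp_16_5
    | 6, _ => exact wp_16_6
    | 7, _ => exact wp_16_7
    | 8, _ => exact wp_16_8
    | (k + 9), h => omega)

theorem wordP_17 : ∀ p, p < 31671 → wordP 17 p = true :=
  allRange_cover _ 31671 3519 9 (by norm_num) (by norm_num) (fun i hi => by
    match i, hi with
    | 0, _ => exact wp_17_0
    | 1, _ => exact wp_17_1
    | 2, _ => exact wp_17_2
    | 3, _ => exact wp_17_3
    | 4, _ => exact wp_17_4
    | 5, _ => exact wp_17_5
    | 6, _ => exact wp_17_6
    | 7, _ => exact wp_17_7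
    | 8, _ => exact wp_17_8
    | (k + 9), h => omega)

theorem wordP_18 : ∀ p, p < 31671 → wordP 18 p = true :=
  allRange_cover _ 31671 3519 9 (by norm_num) (by norm_num) (fun i hi => by
    match i, hi with
    | 0, _ => exact wp_18_0
    | 1, _ => exact wp_18_1
    | 2, _ => exact wp_18_2
    | 3, _ => exact wp_18_3
    | 4, _ => exact wp_18_4
    | 5, _ => exact wp_18_5
    | 6, _ => exact wp_18_6
    | 7, _ => exact wp_18_7
    | 8, _ => exact wp_18_8
    | (k + 9), h => omega)

theorem wordP_19 : ∀ p, p < 31671 → wordP 19 p = true :=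
  allRange_cover _ 31671 3519 9 (by norm_num) (by norm_num) (fun i hi => by
    match i, hi with
    | 0, _ => exact wp_19_0
    | 1, _ => exact wp_19_1
    | 2, _ => exact wp_19_2
    | 3, _ => exact wp_19_3
    | 4, _ => exact wp_19_4
    | 5, _ => exact wp_19_5
    | 6, _ => exact wp_19_6
    | 7, _ => exact wp_19_7
    | 8, _ => exact wp_19_8
    | (k + 9), h => omega)

theorem wordP_20 : ∀ p, p < 31671 → wordP 20 p = true :=
  allRange_cover _ 31671 3519 9 (by norm_num) (by norm_num) (fun i hi => by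
    match i, hi with
    | 0, _ => exact wp_20_0
    | 1, _ => exact wp_20_1
    | 2, _ => exact wp_20_2
    | 3, _ => exact wp_20_3
    | 4, _ => exact wp_20_4
    | 5, _ => exact wp_20_5
    | 6, _ => exact wp_20_6
    | 7, _ => exact wp_20_7
    | 8, _ => exact wp_20_8
    | (k + 9), h => omega)

theorem wordP_21 : ∀ p, p < 31671 → wordP 21 p = true :=
  allRange_cover _ 31671 3519 9 (by norm_num) (by norm_num) (fun i hi => by
    match i, hi with
    | 0, _ => exact wp_21_0
    | 1, _ => exact wp_21_1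
    | 2, _ => exact wp_21_2
    | 3, _ => exact wp_21_3
    | 4, _ => exact wp_21_4
    | 5, _ => exact wp_21_5
    | 6, _ => exact wp_21_6
    | 7, _ => exact wp_21_7
    | 8, _ => exact wp_21_8
    | (k + 9), h => omega)

theorem wordP_all : ∀ {k : Nat}, 10 ≤ k → k < 22 → ∀ p, p < 31671 → wordP k p = true
  | 0, h, _ => absurd h (by decide)
  | 1, h, _ => absurd h (by decide)
  | 2, h, _ => absurd h (by decide)
  | 3, h, _ => absurd h (by decide)
  | 4, h, _ => absurd h (by decide)
  | 5, h, _ => absurd h (by decide)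
  | 6, h, _ => absurd h (by decide)
  | 7, h, _ => absurd h (by decide)
  | 8, h, _ => absurd h (by decide)
  | 9, h, _ => absurd h (by decide)
  | 10, _, _ => wordP_10
  | 11, _, _ => wordP_11
  | 12, _, _ => wordP_12
  | 13, _, _ => wordP_13
  | 14, _, _ => wordP_14
  | 15, _, _ => wordP_15
  | 16, _, _ => wordP_16
  | 17, _, _ => wordP_17
  | 18, _, _ => wordP_18
  | 19, _, _ => wordP_19
  | 20, _, _ => wordP_20
  | 21, _, _ => wordP_21
  | (k + 22), _, h => absurd h (by omega)

theorem entOK_0 : ∀ x, x < 31671 → entOK 0 x = true :=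
  allRange_cover _ 31671 3519 9 (by norm_num) (by norm_num) (fun i hi => by
    match i, hi with
    | 0, _ => exact eo_0_0
    | 1, _ => exact eo_0_1
    | 2, _ => exact eo_0_2
    | 3, _ => exact eo_0_3
    | 4, _ => exact eo_0_4
    | 5, _ => exact eo_0_5
    | 6, _ => exact eo_0_6
    | 7, _ => exact eo_0_7
    | 8, _ => exact eo_0_8
    | (k + 9), h => omega)

theorem entOK_1 : ∀ x, x < 31671 → entOK 1 x = true :=
  allRange_cover _ 31671 3519 9 (by norm_num) (by norm_num) (fun i hi => by
    match i, hi with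
    | 0, _ => exact eo_1_0
    | 1, _ => exact eo_1_1
    | 2, _ => exact eo_1_2
    | 3, _ => exact eo_1_3
    | 4, _ => exact eo_1_4
    | 5, _ => exact eo_1_5
    | 6, _ => exact eo_1_6
    | 7, _ => exact eo_1_7
    | 8, _ => exact eo_1_8
    | (k + 9), h => omega)

theorem entOK_2 : ∀ x, x < 31671 → entOK 2 x = true :=
  allRange_cover _ 31671 10557 3 (by norm_num) (by norm_num) (fun i hi => by
    match i, hi with
    | 0, _ => exact eo_2_0
    | 1, _ => exact eo_2_1
    | 2, _ => exact eo_2_2
    | (k + 3), h => omega)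

theorem entOK_3 : ∀ x, x < 31671 → entOK 3 x = true :=
  allRange_cover _ 31671 10557 3 (by norm_num) (by norm_num) (fun i hi => by
    match i, hi with
    | 0, _ => exact eo_3_0
    | 1, _ => exact eo_3_1
    | 2, _ => exact eo_3_2
    | (k + 3), h => omega)

theorem entOK_4 : ∀ x, x < 31671 → entOK 4 x = true :=
  allRange_cover _ 31671 10557 3 (by norm_num) (by norm_num) (fun i hi => by
    match i, hi with
    | 0, _ => exact eo_4_0
    | 1, _ => exact eo_4_1
    | 2, _ => exact eo_4_2
    | (k + 3), h => omega)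

theorem entOK_5 : ∀ x, x < 31671 → entOK 5 x = true :=
  allRange_cover _ 31671 10557 3 (by norm_num) (by norm_num) (fun i hi => by
    match i, hi with
    | 0, _ => exact eo_5_0
    | 1, _ => exact eo_5_1
    | 2, _ => exact eo_5_2
    | (k + 3), h => omega)

theorem entOK_6 : ∀ x, x < 31671 → entOK 6 x = true :=
  allRange_cover _ 31671 10557 3 (by norm_num) (by norm_num) (fun i hi => by
    match i, hi with
    | 0, _ => exact eo_6_0
    | 1, _ => exact eo_6_1
    | 2, _ => exact eo_6_2
    | (k + 3), h => omega)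

theorem entOK_7 : ∀ x, x < 31671 → entOK 7 x = true :=
  allRange_cover _ 31671 10557 3 (by norm_num) (by norm_num) (fun i hi => by
    match i, hi with
    | 0, _ => exact eo_7_0
    | 1, _ => exact eo_7_1
    | 2, _ => exact eo_7_2
    | (k + 3), h => omega)

theorem entOK_8 : ∀ x, x < 31671 → entOK 8 x = true :=
  allRange_cover _ 31671 10557 3 (by norm_num) (by norm_num) (fun i hi => by
    match i, hi with
    | 0, _ => exact eo_8_0
    | 1, _ => exact eo_8_1
    | 2, _ => exact eo_8_2
    | (k + 3), h => omega)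

theorem entOK_all : ∀ (j : Nat), j < 9 → ∀ x, x < 31671 → entOK j x = true
  | 0, _ => entOK_0
  | 1, _ => entOK_1
  | 2, _ => entOK_2
  | 3, _ => entOK_3
  | 4, _ => entOK_4
  | 5, _ => entOK_5
  | 6, _ => entOK_6
  | 7, _ => entOK_7
  | 8, _ => entOK_8
  | (k + 9), h => absurd h (by omega)

theorem count_all : ∀ (j : Nat), j < 9 → Nat.beq (countBelow (inOrb j) NP) (osize j) = true
  | 0, _ => cnt_0
  | 1, _ => cnt_1
  | 2, _ => cnt_2
  | 3, _ => cnt_3
  | 4, _ => cnt_4
  | 5, _ => cnt_5
  | 6, _ => cnt_6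
  | 7, _ => cnt_7
  | 8, _ => cnt_8
  | (k + 9), h => absurd h (by omega)

end

end Cfsg.Agent.Helper27.Fi23
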