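import Cfsg.Agent.Lib.Helper27.Fi23.Model
import Cfsg.Agent.Lib.Helper27.Fi23.Tabs2
import Cfsg.Agent.Lib.Helper27.Fi23.Chain
import Cfsg.Agent.Lib.Helper27.Fi23.OrbTabs

/-!
# Checkers for the stabilizer chain of the 31671-point model of Fi23

Definitions of the Boolean checkers; the kernel evaluations are spread over several files.
-/

set_option autoImplicit false
set_option maxRecDepth 100000

namespace Cfsg.Agent.Helper27.Fi23

open Cfsg.Spor.Fi23 (Gen)
open Cfsg.Agent.Helper27 (BT)

noncomputable section

/-- a Boolean predicate holds for all members of a list -/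
def allLst {β : Type} (f : β → Bool) : List β → Bool
  | [] => true
  | a :: l => andB (f a) (allLst f l)

theorem allLst_sound {β : Type} {f : β → Bool} : ∀ {l : List β}, allLst f l = true → ∀ a ∈ l, f a = true
  | [], _, a, ha => absurd ha List.not_mem_nil
  | b :: l, h, a, ha => by
    obtain ⟨h1, h2⟩ := andB_eq_true h
    rcases List.mem_cons.1 ha with rfl | ha
    · exact h1
    · exact allLst_sound h2 a ha

/-- the tables of the generators and the strong generators -/
def T : Nat → BT
  | 0 => tab0 | 1 => tab1 | 2 => tab2 | 3 => tab3 | 4 => tab4 | 5 => tab5 | 6 => tab6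
  | 7 => tab7 | 8 => tab8 | 9 => tab9 | 10 => tab10 | 11 => tab11 | 12 => tab12 | 13 => tab13
  | 14 => tab14 | 15 => tab15 | 16 => tab16 | 17 => tab17 | 18 => tab18 | 19 => tab19
  | 20 => tab20 | 21 => tab21 | _ => .leaf 0

/-- the tables of the inverses -/
def Ti : Nat → BT
  | 0 => tab0 | 1 => tab1 | 2 => tab2 | 3 => tab3 | 4 => tab4 | 5 => tab5 | 6 => tab6
  | 7 => tab7 | 8 => tab8 | 9 => tab9 | 10 => tin10 | 11 => tin11 | 12 => tin12 | 13 => tin13
  | 14 => tin14 | 15 => tin15 | 16 => tin16 | 17 => tin17 | 18 => tin18 | 19 => tin19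
  | 20 => tin20 | 21 => tin21 | _ => .leaf 0

/-- the pointwise check of the tables of the `k`-th element -/
def tabP (k p : Nat) : Bool :=
  andB (Nat.blt (look (T k) p) NP) (andB (Nat.blt (look (Ti k) p) NP)
    (andB (Nat.beq (look (Ti k) (look (T k) p)) p) (Nat.beq (look (T k) (look (Ti k) p)) p)))

/-- a signed letter applied to a point -/
def app (l : Nat × Bool) (p : Nat) : Nat := Bool.rec (look (Ti l.1) p) (look (T l.1) p) l.2

/-- a word applied to a point, last letter first -/
def ev : List (Nat × Bool) → Nat → Nat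
  | [], p => p
  | l :: w, p => app l (ev w p)

/-- the words of the strong generators -/
def W : Nat → List (Nat × Bool)
  | 10 => word10 | 11 => word11 | 12 => word12 | 13 => word13 | 14 => word14
  | 15 => word15 | 16 => word16 | 17 => word17 | 18 => word18 | 19 => word19
  | 20 => word20 | 21 => word21 | _ => []

/-- the letters of the word of the `k`-th element are earlier elements -/
def wordL (k : Nat) : Bool := allLst (fun l => Nat.blt l.1 k) (W k)

/-- the pointwise check of the word of the `k`-th element -/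
def wordP (k p : Nat) : Bool := Nat.beq (look (T k) p) (ev (W k) p)

/-- the base points -/
def bptN : Nat → Nat
  | 0 => 0 | 1 => 3 | 2 => 1 | 3 => 4 | 4 => 5 | 5 => 2 | 6 => 6 | 7 => 7 | 8 => 8 | _ => 0

/-- the `k`-th element fixes the first `j` base points -/
def fixB (k j : Nat) : Bool := allBelow (fun i => Nat.beq (look (T k) (bptN i)) (bptN i)) j

/-- 32-bit lookup -/
def look32 (t : BT) (p : Nat) : Nat := t.get32 p

/-- the orbit tables -/
def orbT : Nat → BT
  | 0 => orbT0 | 1 => orbT1 | 2 => orbT2 | 3 => orbT3 | 4 => orbT4 | 5 => orbT5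
  | 6 => orbT6 | 7 => orbT7 | 8 => orbT8 | _ => .leaf 0

/-- entry of a point in an orbit table -/
def oEnt (j x : Nat) : Nat := look32 (orbT j) x
/-- validity bit -/
def oValid (e : Nat) : Bool := Nat.beq (Nat.shiftRight e (nat_lit 31)) (nat_lit 1)
/-- depth -/
def oDepth (e : Nat) : Nat := Nat.land (Nat.shiftRight e (nat_lit 22)) (nat_lit 511)
/-- parent point -/
def oP (e : Nat) : Nat := Nat.land e (nat_lit 65535)
/-- generator -/
def oK (e : Nat) : Nat := Nat.land (Nat.shiftRight e (nat_lit 16)) (nat_lit 31)
/-- sign -/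
def oS (e : Nat) : Bool := Nat.beq (Nat.land (Nat.shiftRight e (nat_lit 21)) (nat_lit 1)) (nat_lit 1)
/-- membership in the orbit -/
def inOrb (j x : Nat) : Bool := oValid (oEnt j x)

/-- the check of one entry of an orbit table -/
def entOK (j x : Nat) : Bool :=
  orB (Bool.rec true false (inOrb j x))
    (orB (Nat.beq x (bptN j))
      (andB (inOrb j (oP (oEnt j x)))
        (andB (Nat.blt (oDepth (oEnt j (oP (oEnt j x)))) (oDepth (oEnt j x)))
          (andB (Nat.blt (oP (oEnt j x)) NP)
            (andB (Nat.blt (oK (oEnt j x)) 22)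
              (andB (fixB (oK (oEnt j x)) j)
                (Nat.beq (app (oK (oEnt j x), oS (oEnt j x)) (oP (oEnt j x))) x)))))))

/-- count the numbers below a bound satisfying a predicate -/
def countBelow (f : Nat → Bool) : Nat → Nat
  | 0 => 0
  | n + 1 => Bool.rec (countBelow f n) (Nat.succ (countBelow f n)) (f n)

/-- the orbit sizes -/
def osize : Nat → Nat
  | 0 => 31671 | 1 => 28160 | 2 => 3159 | 3 => 288 | 4 => 35 | 5 => 12 | 6 => 3 | 7 => 2 | 8 => 2
  | _ => 0

end

end Cfsg.Agent.Helper27.Fi23
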