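import Cfsg.Agent.Lib.Helper27.Fi23.Hom
import Cfsg.Agent.Lib.Helper27.Fi23.LowAll
import Cfsg.Agent.Lib.Helper92.Fi22Glue

/-!
# A lower bound for the order of the image of the presented Fi23 in `Perm (Fin 31671)`

A stabilizer chain with base `0, 3, 1, 4, 5, 2, 6, 7, 8` and orbit sizes
`31671, 28160, 3159, 288, 35, 12, 3, 2, 2`.
-/

set_option autoImplicit false
set_option maxRecDepth 100000

namespace Cfsg.Agent.Helper27.Fi23

open Cfsg.Spor.Fi23 (Gen)
open Cfsg.Agent.Helper27 (BT)

noncomputable section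

theorem tabs_ok {k p : Nat} (hk : k < 22) (hp : p < 31671) :
    look (T k) p < 31671 ∧ look (Ti k) p < 31671 ∧ look (Ti k) (look (T k) p) = p ∧
      look (T k) (look (Ti k) p) = p := by
  have h := tabP_all hk p hp
  obtain ⟨h1, h⟩ := andB_eq_true h
  obtain ⟨h2, h⟩ := andB_eq_true h
  obtain ⟨h3, h4⟩ := andB_eq_true h
  have h1' := Nat.ble_eq.mp h1
  have h2' := Nat.ble_eq.mp h2
  simp only [NP_eq] at h1' h2'
  exact ⟨by omega, by omega, Nat.eq_of_beq_eq_true h3, Nat.eq_of_beq_eq_true h4⟩

/-- the permutations of the generators and the strong generators -/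
def elt (k : Nat) : Equiv.Perm (Fin 31671) :=
  if hk : k < 22 then
    { toFun := fun p => ⟨look (T k) p.val, (tabs_ok hk p.2).1⟩
      invFun := fun p => ⟨look (Ti k) p.val, (tabs_ok hk p.2).2.1⟩
      left_inv := fun p => Fin.ext (tabs_ok hk p.2).2.2.1
      right_inv := fun p => Fin.ext (tabs_ok hk p.2).2.2.2 }
  else 1

theorem elt_val {k : Nat} (hk : k < 22) (p : Fin 31671) : (elt k p).val = look (T k) p.val := by
  unfold elt
  rw [dif_pos hk]
  rfl

theorem elt_symm_val {k : Nat} (hk : k < 22) (p : Fin 31671) :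
    ((elt k)⁻¹ p).val = look (Ti k) p.val := by
  unfold elt
  rw [dif_pos hk]
  rfl

/-- the permutation of a signed letter -/
def lperm (l : Nat × Bool) : Equiv.Perm (Fin 31671) := Bool.rec (elt l.1)⁻¹ (elt l.1) l.2

theorem lperm_val (l : Nat × Bool) (hl : l.1 < 22) (p : Fin 31671) :
    (lperm l p).val = app l p.val := by
  obtain ⟨k, s⟩ := l
  cases s
  · exact elt_symm_val hl p
  · exact elt_val hl p

/-- the permutation of a word -/
def wprod (w : List (Nat × Bool)) : Equiv.Perm (Fin 31671) := (w.map lperm).prod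

theorem wprod_val (w : List (Nat × Bool)) (hw : ∀ l ∈ w, l.1 < 22) (p : Fin 31671) :
    (wprod w p).val = ev w p.val := by
  induction w generalizing p with
  | nil => rfl
  | cons l w ih =>
    have h1 : wprod (l :: w) = lperm l * wprod w := by
      unfold wprod
      rw [List.map_cons, List.prod_cons]
    rw [h1, Equiv.Perm.mul_apply, lperm_val l (hw l (List.mem_cons_self ..)),
      ih (fun m hm => hw m (List.mem_cons_of_mem _ hm))]
    rfl

theorem elt_eq_wprod {k : Nat} (h10 : 10 ≤ k) (hk : k < 22) :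
    elt k = wprod (W k) ∧ ∀ l ∈ W k, l.1 < k := by
  have h1 := wordL_all h10 hk
  have h2 := wordP_all h10 hk
  have hlt : ∀ l ∈ W k, l.1 < k := by
    intro l hl
    have := Nat.ble_eq.mp (allLst_sound h1 l hl)
    omega
  refine ⟨?_, hlt⟩
  ext p
  rw [elt_val hk, wprod_val (W k) (fun l hl => by have := hlt l hl; omega)]
  exact Nat.eq_of_beq_eq_true (h2 p.val p.2)

theorem elt_gIdx (x : Gen) : elt (gIdx x) = σ x := by
  ext p
  rw [elt_val (by cases x <;> decide)]
  cases x <;> rfl

theorem elt_mem_small {k : Nat} (hk : k < 10) : elt k ∈ phi.range := by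
  have key : ∀ x : Gen, elt (gIdx x) ∈ phi.range := fun x =>
    ⟨PresentedGroup.of x, by rw [phi_of, elt_gIdx]⟩
  interval_cases k
  · exact key .a
  · exact key .b
  · exact key .c
  · exact key .d
  · exact key .e
  · exact key .f
  · exact key .g
  · exact key .j
  · exact key .h
  · exact key .i

theorem elt_mem : ∀ k, k ≤ 22 → ∀ j, j < k → elt j ∈ phi.range := by
  intro k
  induction k with
  | zero => intro _ j hj; omega
  | succ k ih =>
    intro hk j hj
    rcases Nat.lt_succ_iff_lt_or_eq.1 hj with hlt | rfl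
    · exact ih (by omega) j hlt
    · by_cases h9 : j < 10
      · exact elt_mem_small h9
      · obtain ⟨heq, hlt⟩ := elt_eq_wprod (by omega) (by omega : j < 22)
        rw [heq]
        apply Subgroup.list_prod_mem
        intro g hg
        obtain ⟨l, hl, rfl⟩ := List.mem_map.1 hg
        have := ih (by omega) l.1 (hlt l hl)
        obtain ⟨i, s⟩ := l
        cases s
        · exact phi.range.inv_mem this
        · exact this

theorem bptN_lt (j : Nat) : bptN j < 31671 := by
  unfold bptN
  split <;> norm_num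

/-- the base points -/
def bpt (j : Nat) : Fin 31671 := ⟨bptN j, bptN_lt j⟩

/-- the stabilizer chain -/
def Rch : Nat → Subgroup (Equiv.Perm (Fin 31671))
  | 0 => phi.range
  | j + 1 => Rch j ⊓ MulAction.stabilizer (Equiv.Perm (Fin 31671)) (bpt j)

theorem elt_mem_Rch {k : Nat} (hk : k < 22) : ∀ {j : Nat}, fixB k j = true → elt k ∈ Rch j
  | 0, _ => elt_mem 22 le_rfl k hk
  | j + 1, h => by
    obtain ⟨h1, h2⟩ := andB_eq_true h
    refine Subgroup.mem_inf.2 ⟨elt_mem_Rch hk h2, ?_⟩
    rw [MulAction.mem_stabilizer_iff, Equiv.Perm.smul_def]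
    apply Fin.ext
    rw [elt_val hk]
    exact Nat.eq_of_beq_eq_true h1

theorem reach (j : Nat) (hj : j < 9) : ∀ d x, x < 31671 → inOrb j x = true →
    oDepth (oEnt j x) = d → ∃ r ∈ Rch j, (r (bpt j)).val = x := by
  intro d
  induction d using Nat.strong_induction_on with
  | _ d ih =>
    intro x hx hv hd
    have hchk : entOK j x = true := entOK_all j hj x hx
    unfold entOK at hchk
    rcases orB_eq_true hchk with h1 | h1
    · rw [hv] at h1
      cases h1
    · rcases orB_eq_true h1 with h2 | h2
      · refine ⟨1, (Rch j).one_mem, ?_⟩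
        rw [Nat.eq_of_beq_eq_true h2]
        rfl
      · obtain ⟨hvp, h3⟩ := andB_eq_true h2
        obtain ⟨hdp, h4⟩ := andB_eq_true h3
        obtain ⟨hplt, h5⟩ := andB_eq_true h4
        obtain ⟨hk, h6⟩ := andB_eq_true h5
        obtain ⟨hfix, happ⟩ := andB_eq_true h6
        have hdp' := Nat.ble_eq.mp hdp
        have hplt' := Nat.ble_eq.mp hplt
        have hk' := Nat.ble_eq.mp hk
        simp only [NP_eq] at hplt'
        have hk22 : oK (oEnt j x) < 22 := by omega
        obtain ⟨r, hr, hrp⟩ := ih (oDepth (oEnt j (oP (oEnt j x)))) (by omega)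
          (oP (oEnt j x)) (by omega) hvp rfl
        have hmem := elt_mem_Rch hk22 hfix
        have happ' := Nat.eq_of_beq_eq_true happ
        cases hs : oS (oEnt j x) with
        | false =>
          refine ⟨(elt (oK (oEnt j x)))⁻¹ * r, (Rch j).mul_mem ((Rch j).inv_mem hmem) hr, ?_⟩
          rw [Equiv.Perm.mul_apply, elt_symm_val hk22, hrp]
          rw [hs] at happ'
          exact happ'
        | true =>
          refine ⟨elt (oK (oEnt j x)) * r, (Rch j).mul_mem hmem hr, ?_⟩
          rw [Equiv.Perm.mul_apply, elt_val hk22, hrp]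
          rw [hs] at happ'
          exact happ'

theorem countBelow_eq (f : Nat → Bool) (n : Nat) :
    countBelow f n = ∑ i ∈ Finset.range n, if f i = true then 1 else 0 := by
  induction n with
  | zero => rfl
  | succ n ih =>
    rw [Finset.sum_range_succ, ← ih]
    show Bool.rec (motive := fun _ => Nat) (countBelow f n) (Nat.succ (countBelow f n)) (f n) = _
    cases f n <;> simp

theorem card_filter_eq (f : Nat → Bool) (n : Nat) :
    ((Finset.univ : Finset (Fin n)).filter (fun x => f x.val = true)).card = countBelow f n := by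
  rw [Finset.card_filter, countBelow_eq, ← Fin.sum_univ_eq_sum_range (fun i => if f i = true then 1 else 0) n]

theorem chain_step (j : Nat) (hj : j < 9) : osize j * Nat.card (Rch (j + 1)) ≤ Nat.card (Rch j) := by
  have h := Cfsg.Agent.Helper92.Fi22Glue.card_orbit_mul_le (Rch j) (bpt j)
    ((Finset.univ : Finset (Fin 31671)).filter (fun x => inOrb j x.val = true)) (by
      intro x hx
      obtain ⟨r, hr, hrx⟩ := reach j hj _ x.val x.2 (Finset.mem_filter.1 hx).2 rfl
      exact ⟨r, hr, Fin.ext hrx⟩)
  rw [card_filter_eq] at h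
  have hc : countBelow (inOrb j) 31671 = osize j :=
    Nat.eq_of_beq_eq_true (count_all j hj)
  rw [hc] at h
  exact h

/-- the image of the presented group has order at least `|Fi23|` -/
theorem card_range_ge : 4089470473293004800 ≤ Nat.card phi.range := by
  have h0 : 31671 * Nat.card (Rch 1) ≤ Nat.card phi.range := chain_step 0 (by norm_num)
  have h1 : 28160 * Nat.card (Rch 2) ≤ Nat.card (Rch 1) := chain_step 1 (by norm_num)
  have h2 : 3159 * Nat.card (Rch 3) ≤ Nat.card (Rch 2) := chain_step 2 (by norm_num)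
  have h3 : 288 * Nat.card (Rch 4) ≤ Nat.card (Rch 3) := chain_step 3 (by norm_num)
  have h4 : 35 * Nat.card (Rch 5) ≤ Nat.card (Rch 4) := chain_step 4 (by norm_num)
  have h5 : 12 * Nat.card (Rch 6) ≤ Nat.card (Rch 5) := chain_step 5 (by norm_num)
  have h6 : 3 * Nat.card (Rch 7) ≤ Nat.card (Rch 6) := chain_step 6 (by norm_num)
  have h7 : 2 * Nat.card (Rch 8) ≤ Nat.card (Rch 7) := chain_step 7 (by norm_num)
  have h8 : 2 * Nat.card (Rch 9) ≤ Nat.card (Rch 8) := chain_step 8 (by norm_num)
  have h9 : 1 ≤ Nat.card (Rch 9) := Nat.card_pos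
  omega

/-- the image of the presented group is transitive -/
theorem phi_trans (x : Fin 31671) : ∃ g : Cfsg.Spor.Fi23, phi g 0 = x := by
  obtain ⟨r, hr, hrx⟩ := reach 0 (by norm_num) _ x.val x.2 (allBelow_sound chk_trans x.val x.2) rfl
  obtain ⟨g, rfl⟩ := hr
  exact ⟨g, Fin.ext hrx⟩

end

end Cfsg.Agent.Helper27.Fi23
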