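import Mathlib
import Cfsg.Prelude.Def_Spor_Fi23
import Cfsg.Agent.Lib.Helper27.Fi23.Tabs

/-!
# A permutation model of the presented group Fi23 on 31671 points

The ten generators act on `Fin 31671` through trees of packed 16-bit chunks.  The Boolean checkers are
written with raw `Nat` operations so that kernel evaluation is fast; the checks of the relators
are spread over several files.
-/

set_option autoImplicit false

namespace Cfsg.Agent.Helper27.Fi23

open Cfsg.Spor.Fi23 (Gen)
open Cfsg.Agent.Helper27 (BT)

noncomputable section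

/-- table lookup: 16-bit entries -/
def look (t : BT) (p : Nat) : Nat := t.get16 p

/-- conjunction through the recursor -/
def andB (a b : Bool) : Bool := Bool.rec false b a

theorem andB_eq_true {a b : Bool} (h : andB a b = true) : a = true ∧ b = true := by
  cases a <;> cases b <;> simp_all [andB]

/-- disjunction through the recursor -/
def orB (a b : Bool) : Bool := Bool.rec b true a

theorem orB_eq_true {a b : Bool} (h : orB a b = true) : a = true ∨ b = true := by
  cases a <;> cases b <;> simp_all [orB]

/-- a Boolean predicate holds for all numbers below a bound -/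
def allBelow (f : Nat → Bool) : Nat → Bool
  | 0 => true
  | n + 1 => andB (f n) (allBelow f n)

theorem allBelow_sound {f : Nat → Bool} : ∀ {n : Nat}, allBelow f n = true → ∀ p, p < n → f p = true
  | 0, _, p, hp => absurd hp (Nat.not_lt_zero p)
  | n + 1, h, p, hp => by
    obtain ⟨h1, h2⟩ := andB_eq_true h
    rcases Nat.lt_succ_iff_lt_or_eq.1 hp with hlt | rfl
    · exact allBelow_sound h2 p hlt
    · exact h1

/-- iterate a function -/
def iter (f : Nat → Nat) : Nat → Nat → Nat
  | 0, p => p
  | n + 1, p => iter f n (f p)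

/-- the table of a generator -/
def tabG : Gen → BT
  | .a => tab0 | .b => tab1 | .c => tab2 | .d => tab3 | .e => tab4
  | .f => tab5 | .g => tab6 | .j => tab7 | .h => tab8 | .i => tab9

/-- the action of a generator on points -/
def F (x : Gen) (p : Nat) : Nat := look (tabG x) p

/-- the index of a generator -/
def gIdx : Gen → Nat
  | .a => 0 | .b => 1 | .c => 2 | .d => 3 | .e => 4 | .f => 5 | .g => 6 | .j => 7 | .h => 8 | .i => 9

/-- a Boolean predicate holds for all generators -/
def allG (f : Gen → Bool) : Bool :=
  andB (f .a) (andB (f .b) (andB (f .c) (andB (f .d) (andB (f .e) (andB (f .f) (andB (f .g)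
    (andB (f .j) (andB (f .h) (f .i)))))))))

theorem allG_sound {f : Gen → Bool} (h : allG f = true) (x : Gen) : f x = true := by
  unfold allG at h
  obtain ⟨ha, h⟩ := andB_eq_true h
  obtain ⟨hb, h⟩ := andB_eq_true h
  obtain ⟨hc, h⟩ := andB_eq_true h
  obtain ⟨hd, h⟩ := andB_eq_true h
  obtain ⟨he, h⟩ := andB_eq_true h
  obtain ⟨hf, h⟩ := andB_eq_true h
  obtain ⟨hg, h⟩ := andB_eq_true h
  obtain ⟨hj, h⟩ := andB_eq_true h
  obtain ⟨hh, hi⟩ := andB_eq_true h
  cases x <;> assumption

/-- Coxeter labels, written out -/
def lab : Gen → Gen → Nat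
  | .a, .a => 1 | .a, .b => 3 | .a, _ => 2
  | .b, .a => 3 | .b, .b => 1 | .b, .c => 3 | .b, _ => 2
  | .c, .b => 3 | .c, .c => 1 | .c, .d => 3 | .c, _ => 2
  | .d, .c => 3 | .d, .d => 1 | .d, .e => 3 | .d, .h => 3 | .d, _ => 2
  | .e, .d => 3 | .e, .e => 1 | .e, .f => 3 | .e, _ => 2
  | .f, .e => 3 | .f, .f => 1 | .f, .g => 3 | .f, _ => 2
  | .g, .f => 3 | .g, .g => 1 | .g, .j => 3 | .g, _ => 2
  | .j, .g => 3 | .j, .j => 1 | .j, _ => 2
  | .h, .d => 3 | .h, .h => 1 | .h, .i => 3 | .h, _ => 2
  | .i, .h => 3 | .i, .i => 1 | .i, _ => 2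

theorem lab_eq (x y : Gen) : Cfsg.Spor.coxLabel Cfsg.Spor.Fi23.edges x y = lab x y := by
  cases x <;> cases y <;> rfl

theorem lab_symm (x y : Gen) : lab x y = lab y x := by
  cases x <;> cases y <;> rfl

/-- action of a word (list of generators), last letter first -/
def actW : List Gen → Nat → Nat
  | [], p => p
  | x :: w, p => F x (actW w p)

/-- number of points -/
def NP : Nat := nat_lit 31671

/-- a Boolean predicate holds for the numbers `lo, …, lo + len - 1` -/
def allRange (f : Nat → Bool) (lo len : Nat) : Bool := allBelow (fun k => f (Nat.add lo k)) len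

theorem allRange_cover (f : Nat → Bool) (N C m : Nat) (hm : N ≤ m * C) (hC : 0 < C)
    (h : ∀ i, i < m → allRange f (i * C) C = true) : ∀ p, p < N → f p = true := by
  intro p hp
  have hi : p / C < m := by
    rw [Nat.div_lt_iff_lt_mul hC]
    exact lt_of_lt_of_le hp hm
  have := allBelow_sound (h (p / C) hi) (p % C) (Nat.mod_lt _ hC)
  have e : Nat.add (p / C * C) (p % C) = p := by
    show p / C * C + p % C = p
    rw [Nat.mul_comm]
    exact Nat.div_add_mod p C
  rw [e] at this
  exact this

/-- the pointwise check that a generator is an involution of the points -/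
def involP (x : Gen) (p : Nat) : Bool := andB (Nat.blt (F x p) NP) (Nat.beq (F x (F x p)) p)

/-- the pointwise check of the Coxeter relator `(x y)^m` -/
def coxP (x y : Gen) (p : Nat) : Bool := Nat.beq (iter (fun q => F x (F y q)) (lab x y) p) p

/-- the spider word -/
def w1 : List Gen := [.d, .c, .b, .d, .e, .f, .d, .h, .i]
/-- an `E₇` Coxeter word -/
def w2 : List Gen := [.a, .b, .c, .d, .e, .f, .h]

/-- the pointwise check of the spider relator -/
def w1P (p : Nat) : Bool := Nat.beq (iter (actW w1) (nat_lit 10) p) p
/-- the pointwise check of the `E₇` relator -/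
def w2P (p : Nat) : Bool := Nat.beq (iter (actW w2) (nat_lit 9) p) p

end

end Cfsg.Agent.Helper27.Fi23
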