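import Cfsg.Agent.Lib.Helper27.Fi23.Model

/-! Kernel checks of the spider relator of the 31671-point model of Fi23. -/

set_option autoImplicit false
set_option maxRecDepth 100000
set_option Elab.async false

namespace Cfsg.Agent.Helper27.Fi23

open Cfsg.Spor.Fi23 (Gen)
open Cfsg.Agent.Helper27 (BT)

theorem w1p_0 : allRange (w1P) (0 * 621) 621 = true := by decide +kernel
theorem w1p_1 : allRange (w1P) (1 * 621) 621 = true := by decide +kernel
theorem w1p_2 : allRange (w1P) (2 * 621) 621 = true := by decide +kernel
theorem w1p_3 : allRange (w1P) (3 * 621) 621 = true := by decide +kernel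
theorem w1p_4 : allRange (w1P) (4 * 621) 621 = true := by decide +kernel
theorem w1p_5 : allRange (w1P) (5 * 621) 621 = true := by decide +kernel
theorem w1p_6 : allRange (w1P) (6 * 621) 621 = true := by decide +kernel
theorem w1p_7 : allRange (w1P) (7 * 621) 621 = true := by decide +kernel
theorem w1p_8 : allRange (w1P) (8 * 621) 621 = true := by decide +kernel
theorem w1p_9 : allRange (w1P) (9 * 621) 621 = true := by decide +kernel
theorem w1p_10 : allRange (w1P) (10 * 621) 621 = true := by decide +kernel
theorem w1p_11 : allRange (w1P) (11 * 621) 621 = true := by decide +kernel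
theorem w1p_12 : allRange (w1P) (12 * 621) 621 = true := by decide +kernel

end Cfsg.Agent.Helper27.Fi23
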