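import Cfsg.Agent.Lib.Helper27.Fi23.Model

/-! Kernel checks of the spider relator of the 31671-point model of Fi23. -/

set_option autoImplicit false
set_option maxRecDepth 100000
set_option Elab.async false

namespace Cfsg.Agent.Helper27.Fi23

open Cfsg.Spor.Fi23 (Gen)
open Cfsg.Agent.Helper27 (BT)

theorem w1p_13 : allRange (w1P) (13 * 621) 621 = true := by decide +kernel
theorem w1p_14 : allRange (w1P) (14 * 621) 621 = true := by decide +kernel
theorem w1p_15 : allRange (w1P) (15 * 621) 621 = true := by decide +kernel
theorem w1p_16 : allRange (w1P) (16 * 621) 621 = true := by decide +kernel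
theorem w1p_17 : allRange (w1P) (17 * 621) 621 = true := by decide +kernel
theorem w1p_18 : allRange (w1P) (18 * 621) 621 = true := by decide +kernel
theorem w1p_19 : allRange (w1P) (19 * 621) 621 = true := by decide +kernel
theorem w1p_20 : allRange (w1P) (20 * 621) 621 = true := by decide +kernel
theorem w1p_21 : allRange (w1P) (21 * 621) 621 = true := by decide +kernel
theorem w1p_22 : allRange (w1P) (22 * 621) 621 = true := by decide +kernel
theorem w1p_23 : allRange (w1P) (23 * 621) 621 = true := by decide +kernel
theorem w1p_24 : allRange (w1P) (24 * 621) 621 = true := by decide +kernel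
theorem w1p_25 : allRange (w1P) (25 * 621) 621 = true := by decide +kernel

end Cfsg.Agent.Helper27.Fi23
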