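import Cfsg.Agent.Lib.Helper27.Fi23.Model

/-! Kernel checks of the spider relator of the 31671-point model of Fi23. -/

set_option autoImplicit false
set_option maxRecDepth 100000
set_option Elab.async false

namespace Cfsg.Agent.Helper27.Fi23

open Cfsg.Spor.Fi23 (Gen)
open Cfsg.Agent.Helper27 (BT)

theorem w1p_39 : allRange (w1P) (39 * 621) 621 = true := by decide +kernel
theorem w1p_40 : allRange (w1P) (40 * 621) 621 = true := by decide +kernel
theorem w1p_41 : allRange (w1P) (41 * 621) 621 = true := by decide +kernel
theorem w1p_42 : allRange (w1P) (42 * 621) 621 = true := by decide +kernel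
theorem w1p_43 : allRange (w1P) (43 * 621) 621 = true := by decide +kernel
theorem w1p_44 : allRange (w1P) (44 * 621) 621 = true := by decide +kernel
theorem w1p_45 : allRange (w1P) (45 * 621) 621 = true := by decide +kernel
theorem w1p_46 : allRange (w1P) (46 * 621) 621 = true := by decide +kernel
theorem w1p_47 : allRange (w1P) (47 * 621) 621 = true := by decide +kernel
theorem w1p_48 : allRange (w1P) (48 * 621) 621 = true := by decide +kernel
theorem w1p_49 : allRange (w1P) (49 * 621) 621 = true := by decide +kernel
theorem w1p_50 : allRange (w1P) (50 * 621) 621 = true := by decide +kernel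

end Cfsg.Agent.Helper27.Fi23
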