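import Cfsg.Agent.Lib.Helper27.Fi23.Model

/-! Kernel checks of the `E₇` relator of the 31671-point model of Fi23. -/

set_option autoImplicit false
set_option maxRecDepth 100000
set_option Elab.async false

namespace Cfsg.Agent.Helper27.Fi23

open Cfsg.Spor.Fi23 (Gen)
open Cfsg.Agent.Helper27 (BT)

theorem w2p_9 : allRange (w2P) (9 * 1173) 1173 = true := by decide +kernel
theorem w2p_10 : allRange (w2P) (10 * 1173) 1173 = true := by decide +kernel
theorem w2p_11 : allRange (w2P) (11 * 1173) 1173 = true := by decide +kernel
theorem w2p_12 : allRange (w2P) (12 * 1173) 1173 = true := by decide +kernel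
theorem w2p_13 : allRange (w2P) (13 * 1173) 1173 = true := by decide +kernel
theorem w2p_14 : allRange (w2P) (14 * 1173) 1173 = true := by decide +kernel
theorem w2p_15 : allRange (w2P) (15 * 1173) 1173 = true := by decide +kernel
theorem w2p_16 : allRange (w2P) (16 * 1173) 1173 = true := by decide +kernel
theorem w2p_17 : allRange (w2P) (17 * 1173) 1173 = true := by decide +kernel

end Cfsg.Agent.Helper27.Fi23
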