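import Cfsg.Agent.Lib.Helper27.Fi23.Model

/-! Kernel checks of the `E₇` relator of the 31671-point model of Fi23. -/

set_option autoImplicit false
set_option maxRecDepth 100000
set_option Elab.async false

namespace Cfsg.Agent.Helper27.Fi23

open Cfsg.Spor.Fi23 (Gen)
open Cfsg.Agent.Helper27 (BT)

theorem w2p_18 : allRange (w2P) (18 * 1173) 1173 = true := by decide +kernel
theorem w2p_19 : allRange (w2P) (19 * 1173) 1173 = true := by decide +kernel
theorem w2p_20 : allRange (w2P) (20 * 1173) 1173 = true := by decide +kernel
theorem w2p_21 : allRange (w2P) (21 * 1173) 1173 = true := by decide +kernel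
theorem w2p_22 : allRange (w2P) (22 * 1173) 1173 = true := by decide +kernel
theorem w2p_23 : allRange (w2P) (23 * 1173) 1173 = true := by decide +kernel
theorem w2p_24 : allRange (w2P) (24 * 1173) 1173 = true := by decide +kernel
theorem w2p_25 : allRange (w2P) (25 * 1173) 1173 = true := by decide +kernel
theorem w2p_26 : allRange (w2P) (26 * 1173) 1173 = true := by decide +kernel

end Cfsg.Agent.Helper27.Fi23
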