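import Cfsg.Agent.Lib.Helper27.Fi23.Cox_a
import Cfsg.Agent.Lib.Helper27.Fi23.Cox_b
import Cfsg.Agent.Lib.Helper27.Fi23.Cox_c
import Cfsg.Agent.Lib.Helper27.Fi23.Cox_d
import Cfsg.Agent.Lib.Helper27.Fi23.Cox_e
import Cfsg.Agent.Lib.Helper27.Fi23.Cox_f
import Cfsg.Agent.Lib.Helper27.Fi23.Cox_g
import Cfsg.Agent.Lib.Helper27.Fi23.Cox_j
import Cfsg.Agent.Lib.Helper27.Fi23.Cox_h
import Cfsg.Agent.Lib.Helper27.Fi23.Cox_i
import Cfsg.Agent.Lib.Helper27.Fi23.W1p_0
import Cfsg.Agent.Lib.Helper27.Fi23.W1p_1
import Cfsg.Agent.Lib.Helper27.Fi23.W1p_2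
import Cfsg.Agent.Lib.Helper27.Fi23.W1p_3
import Cfsg.Agent.Lib.Helper27.Fi23.W2p_0
import Cfsg.Agent.Lib.Helper27.Fi23.W2p_1
import Cfsg.Agent.Lib.Helper27.Fi23.W2p_2

/-! Assembly of the kernel checks of the relators of the 31671-point model of Fi23. -/

set_option autoImplicit false
set_option maxRecDepth 100000

namespace Cfsg.Agent.Helper27.Fi23

open Cfsg.Spor.Fi23 (Gen)
open Cfsg.Agent.Helper27 (BT)

noncomputable section

theorem involP_all : ∀ (x : Gen) (p : Nat), p < 31671 → involP x p = true
  | .a =>
    allRange_cover _ 31671 31671 1 (by norm_num) (by norm_num) (fun i hi => by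
      match i, hi with
      | 0, _ => exact inv_a_0
      | (k + 1), h => omega)
  | .b =>
    allRange_cover _ 31671 31671 1 (by norm_num) (by norm_num) (fun i hi => by
      match i, hi with
      | 0, _ => exact inv_b_0
      | (k + 1), h => omega)
  | .c =>
    allRange_cover _ 31671 31671 1 (by norm_num) (by norm_num) (fun i hi => by
      match i, hi with
      | 0, _ => exact inv_c_0
      | (k + 1), h => omega)
  | .d =>
    allRange_cover _ 31671 31671 1 (by norm_num) (by norm_num) (fun i hi => by
      match i, hi with
      | 0, _ => exact inv_d_0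
      | (k + 1), h => omega)
  | .e =>
    allRange_cover _ 31671 31671 1 (by norm_num) (by norm_num) (fun i hi => by
      match i, hi with
      | 0, _ => exact inv_e_0
      | (k + 1), h => omega)
  | .f =>
    allRange_cover _ 31671 31671 1 (by norm_num) (by norm_num) (fun i hi => by
      match i, hi with
      | 0, _ => exact inv_f_0
      | (k + 1), h => omega)
  | .g =>
    allRange_cover _ 31671 31671 1 (by norm_num) (by norm_num) (fun i hi => by
      match i, hi with
      | 0, _ => exact inv_g_0
      | (k + 1), h => omega)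
  | .j =>
    allRange_cover _ 31671 31671 1 (by norm_num) (by norm_num) (fun i hi => by
      match i, hi with
      | 0, _ => exact inv_j_0
      | (k + 1), h => omega)
  | .h =>
    allRange_cover _ 31671 31671 1 (by norm_num) (by norm_num) (fun i hi => by
      match i, hi with
      | 0, _ => exact inv_h_0
      | (k + 1), h => omega)
  | .i =>
    allRange_cover _ 31671 31671 1 (by norm_num) (by norm_num) (fun i hi => by
      match i, hi with
      | 0, _ => exact inv_i_0
      | (k + 1), h => omega)

theorem coxP_all : ∀ (x y : Gen), gIdx x ≤ gIdx y → ∀ p, p < 31671 → coxP x y p = true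
  | .a, .a, _ =>
    allRange_cover _ 31671 10557 3 (by norm_num) (by norm_num) (fun i hi => by
      match i, hi with
      | 0, _ => exact cx_a_a_0
      | 1, _ => exact cx_a_a_1
      | 2, _ => exact cx_a_a_2
      | (k + 3), h => omega)
  | .a, .b, _ =>
    allRange_cover _ 31671 10557 3 (by norm_num) (by norm_num) (fun i hi => by
      match i, hi with
      | 0, _ => exact cx_a_b_0
      | 1, _ => exact cx_a_b_1
      | 2, _ => exact cx_a_b_2
      | (k + 3), h => omega)
  | .a, .c, _ =>
    allRange_cover _ 31671 10557 3 (by norm_num) (by norm_num) (fun i hi => by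
      match i, hi with
      | 0, _ => exact cx_a_c_0
      | 1, _ => exact cx_a_c_1
      | 2, _ => exact cx_a_c_2
      | (k + 3), h => omega)
  | .a, .d, _ =>
    allRange_cover _ 31671 10557 3 (by norm_num) (by norm_num) (fun i hi => by
      match i, hi with
      | 0, _ => exact cx_a_d_0
      | 1, _ => exact cx_a_d_1
      | 2, _ => exact cx_a_d_2
      | (k + 3), h => omega)
  | .a, .e, _ =>
    allRange_cover _ 31671 10557 3 (by norm_num) (by norm_num) (fun i hi => by
      match i, hi with
      | 0, _ => exact cx_a_e_0
      | 1, _ => exact cx_a_e_1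
      | 2, _ => exact cx_a_e_2
      | (k + 3), h => omega)
  | .a, .f, _ =>
    allRange_cover _ 31671 10557 3 (by norm_num) (by norm_num) (fun i hi => by
      match i, hi with
      | 0, _ => exact cx_a_f_0
      | 1, _ => exact cx_a_f_1
      | 2, _ => exact cx_a_f_2
      | (k + 3), h => omega)
  | .a, .g, _ =>
    allRange_cover _ 31671 10557 3 (by norm_num) (by norm_num) (fun i hi => by
      match i, hi with
      | 0, _ => exact cx_a_g_0
      | 1, _ => exact cx_a_g_1
      | 2, _ => exact cx_a_g_2
      | (k + 3), h => omega)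
  | .a, .j, _ =>
    allRange_cover _ 31671 10557 3 (by norm_num) (by norm_num) (fun i hi => by
      match i, hi with
      | 0, _ => exact cx_a_j_0
      | 1, _ => exact cx_a_j_1
      | 2, _ => exact cx_a_j_2
      | (k + 3), h => omega)
  | .a, .h, _ =>
    allRange_cover _ 31671 10557 3 (by norm_num) (by norm_num) (fun i hi => by
      match i, hi with
      | 0, _ => exact cx_a_h_0
      | 1, _ => exact cx_a_h_1
      | 2, _ => exact cx_a_h_2
      | (k + 3), h => omega)
  | .a, .i, _ =>
    allRange_cover _ 31671 10557 3 (by norm_num) (by norm_num) (fun i hi => by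
      match i, hi with
      | 0, _ => exact cx_a_i_0
      | 1, _ => exact cx_a_i_1
      | 2, _ => exact cx_a_i_2
      | (k + 3), h => omega)
  | .b, .a, h => absurd h (by decide)
  | .b, .b, _ =>
    allRange_cover _ 31671 10557 3 (by norm_num) (by norm_num) (fun i hi => by
      match i, hi with
      | 0, _ => exact cx_b_b_0
      | 1, _ => exact cx_b_b_1
      | 2, _ => exact cx_b_b_2
      | (k + 3), h => omega)
  | .b, .c, _ =>
    allRange_cover _ 31671 10557 3 (by norm_num) (by norm_num) (fun i hi => by
      match i, hi with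
      | 0, _ => exact cx_b_c_0
      | 1, _ => exact cx_b_c_1
      | 2, _ => exact cx_b_c_2
      | (k + 3), h => omega)
  | .b, .d, _ =>
    allRange_cover _ 31671 10557 3 (by norm_num) (by norm_num) (fun i hi => by
      match i, hi with
      | 0, _ => exact cx_b_d_0
      | 1, _ => exact cx_b_d_1
      | 2, _ => exact cx_b_d_2
      | (k + 3), h => omega)
  | .b, .e, _ =>
    allRange_cover _ 31671 10557 3 (by norm_num) (by norm_num) (fun i hi => by
      match i, hi with
      | 0, _ => exact cx_b_e_0
      | 1, _ => exact cx_b_e_1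
      | 2, _ => exact cx_b_e_2
      | (k + 3), h => omega)
  | .b, .f, _ =>
    allRange_cover _ 31671 10557 3 (by norm_num) (by norm_num) (fun i hi => by
      match i, hi with
      | 0, _ => exact cx_b_f_0
      | 1, _ => exact cx_b_f_1
      | 2, _ => exact cx_b_f_2
      | (k + 3), h => omega)
  | .b, .g, _ =>
    allRange_cover _ 31671 10557 3 (by norm_num) (by norm_num) (fun i hi => by
      match i, hi with
      | 0, _ => exact cx_b_g_0
      | 1, _ => exact cx_b_g_1
      | 2, _ => exact cx_b_g_2
      | (k + 3), h => omega)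
  | .b, .j, _ =>
    allRange_cover _ 31671 10557 3 (by norm_num) (by norm_num) (fun i hi => by
      match i, hi with
      | 0, _ => exact cx_b_j_0
      | 1, _ => exact cx_b_j_1
      | 2, _ => exact cx_b_j_2
      | (k + 3), h => omega)
  | .b, .h, _ =>
    allRange_cover _ 31671 10557 3 (by norm_num) (by norm_num) (fun i hi => by
      match i, hi with
      | 0, _ => exact cx_b_h_0
      | 1, _ => exact cx_b_h_1
      | 2, _ => exact cx_b_h_2
      | (k + 3), h => omega)
  | .b, .i, _ =>
    allRange_cover _ 31671 10557 3 (by norm_num) (by norm_num) (fun i hi => by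
      match i, hi with
      | 0, _ => exact cx_b_i_0
      | 1, _ => exact cx_b_i_1
      | 2, _ => exact cx_b_i_2
      | (k + 3), h => omega)
  | .c, .a, h => absurd h (by decide)
  | .c, .b, h => absurd h (by decide)
  | .c, .c, _ =>
    allRange_cover _ 31671 10557 3 (by norm_num) (by norm_num) (fun i hi => by
      match i, hi with
      | 0, _ => exact cx_c_c_0
      | 1, _ => exact cx_c_c_1
      | 2, _ => exact cx_c_c_2
      | (k + 3), h => omega)
  | .c, .d, _ =>
    allRange_cover _ 31671 10557 3 (by norm_num) (by norm_num) (fun i hi => by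
      match i, hi with
      | 0, _ => exact cx_c_d_0
      | 1, _ => exact cx_c_d_1
      | 2, _ => exact cx_c_d_2
      | (k + 3), h => omega)
  | .c, .e, _ =>
    allRange_cover _ 31671 10557 3 (by norm_num) (by norm_num) (fun i hi => by
      match i, hi with
      | 0, _ => exact cx_c_e_0
      | 1, _ => exact cx_c_e_1
      | 2, _ => exact cx_c_e_2
      | (k + 3), h => omega)
  | .c, .f, _ =>
    allRange_cover _ 31671 10557 3 (by norm_num) (by norm_num) (fun i hi => by
      match i, hi with
      | 0, _ => exact cx_c_f_0
      | 1, _ => exact cx_c_f_1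
      | 2, _ => exact cx_c_f_2
      | (k + 3), h => omega)
  | .c, .g, _ =>
    allRange_cover _ 31671 10557 3 (by norm_num) (by norm_num) (fun i hi => by
      match i, hi with
      | 0, _ => exact cx_c_g_0
      | 1, _ => exact cx_c_g_1
      | 2, _ => exact cx_c_g_2
      | (k + 3), h => omega)
  | .c, .j, _ =>
    allRange_cover _ 31671 10557 3 (by norm_num) (by norm_num) (fun i hi => by
      match i, hi with
      | 0, _ => exact cx_c_j_0
      | 1, _ => exact cx_c_j_1
      | 2, _ => exact cx_c_j_2
      | (k + 3), h => omega)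
  | .c, .h, _ =>
    allRange_cover _ 31671 10557 3 (by norm_num) (by norm_num) (fun i hi => by
      match i, hi with
      | 0, _ => exact cx_c_h_0
      | 1, _ => exact cx_c_h_1
      | 2, _ => exact cx_c_h_2
      | (k + 3), h => omega)
  | .c, .i, _ =>
    allRange_cover _ 31671 10557 3 (by norm_num) (by norm_num) (fun i hi => by
      match i, hi with
      | 0, _ => exact cx_c_i_0
      | 1, _ => exact cx_c_i_1
      | 2, _ => exact cx_c_i_2
      | (k + 3), h => omega)
  | .d, .a, h => absurd h (by decide)
  | .d, .b, h => absurd h (by decide)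
  | .d, .c, h => absurd h (by decide)
  | .d, .d, _ =>
    allRange_cover _ 31671 10557 3 (by norm_num) (by norm_num) (fun i hi => by
      match i, hi with
      | 0, _ => exact cx_d_d_0
      | 1, _ => exact cx_d_d_1
      | 2, _ => exact cx_d_d_2
      | (k + 3), h => omega)
  | .d, .e, _ =>
    allRange_cover _ 31671 10557 3 (by norm_num) (by norm_num) (fun i hi => by
      match i, hi with
      | 0, _ => exact cx_d_e_0
      | 1, _ => exact cx_d_e_1
      | 2, _ => exact cx_d_e_2
      | (k + 3), h => omega)
  | .d, .f, _ =>
    allRange_cover _ 31671 10557 3 (by norm_num) (by norm_num) (fun i hi => by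
      match i, hi with
      | 0, _ => exact cx_d_f_0
      | 1, _ => exact cx_d_f_1
      | 2, _ => exact cx_d_f_2
      | (k + 3), h => omega)
  | .d, .g, _ =>
    allRange_cover _ 31671 10557 3 (by norm_num) (by norm_num) (fun i hi => by
      match i, hi with
      | 0, _ => exact cx_d_g_0
      | 1, _ => exact cx_d_g_1
      | 2, _ => exact cx_d_g_2
      | (k + 3), h => omega)
  | .d, .j, _ =>
    allRange_cover _ 31671 10557 3 (by norm_num) (by norm_num) (fun i hi => by
      match i, hi with
      | 0, _ => exact cx_d_j_0
      | 1, _ => exact cx_d_j_1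
      | 2, _ => exact cx_d_j_2
      | (k + 3), h => omega)
  | .d, .h, _ =>
    allRange_cover _ 31671 10557 3 (by norm_num) (by norm_num) (fun i hi => by
      match i, hi with
      | 0, _ => exact cx_d_h_0
      | 1, _ => exact cx_d_h_1
      | 2, _ => exact cx_d_h_2
      | (k + 3), h => omega)
  | .d, .i, _ =>
    allRange_cover _ 31671 10557 3 (by norm_num) (by norm_num) (fun i hi => by
      match i, hi with
      | 0, _ => exact cx_d_i_0
      | 1, _ => exact cx_d_i_1
      | 2, _ => exact cx_d_i_2
      | (k + 3), h => omega)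
  | .e, .a, h => absurd h (by decide)
  | .e, .b, h => absurd h (by decide)
  | .e, .c, h => absurd h (by decide)
  | .e, .d, h => absurd h (by decide)
  | .e, .e, _ =>
    allRange_cover _ 31671 10557 3 (by norm_num) (by norm_num) (fun i hi => by
      match i, hi with
      | 0, _ => exact cx_e_e_0
      | 1, _ => exact cx_e_e_1
      | 2, _ => exact cx_e_e_2
      | (k + 3), h => omega)
  | .e, .f, _ =>
    allRange_cover _ 31671 10557 3 (by norm_num) (by norm_num) (fun i hi => by
      match i, hi with
      | 0, _ => exact cx_e_f_0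
      | 1, _ => exact cx_e_f_1
      | 2, _ => exact cx_e_f_2
      | (k + 3), h => omega)
  | .e, .g, _ =>
    allRange_cover _ 31671 10557 3 (by norm_num) (by norm_num) (fun i hi => by
      match i, hi with
      | 0, _ => exact cx_e_g_0
      | 1, _ => exact cx_e_g_1
      | 2, _ => exact cx_e_g_2
      | (k + 3), h => omega)
  | .e, .j, _ =>
    allRange_cover _ 31671 10557 3 (by norm_num) (by norm_num) (fun i hi => by
      match i, hi with
      | 0, _ => exact cx_e_j_0
      | 1, _ => exact cx_e_j_1
      | 2, _ => exact cx_e_j_2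
      | (k + 3), h => omega)
  | .e, .h, _ =>
    allRange_cover _ 31671 10557 3 (by norm_num) (by norm_num) (fun i hi => by
      match i, hi with
      | 0, _ => exact cx_e_h_0
      | 1, _ => exact cx_e_h_1
      | 2, _ => exact cx_e_h_2
      | (k + 3), h => omega)
  | .e, .i, _ =>
    allRange_cover _ 31671 10557 3 (by norm_num) (by norm_num) (fun i hi => by
      match i, hi with
      | 0, _ => exact cx_e_i_0
      | 1, _ => exact cx_e_i_1
      | 2, _ => exact cx_e_i_2
      | (k + 3), h => omega)
  | .f, .a, h => absurd h (by decide)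
  | .f, .b, h => absurd h (by decide)
  | .f, .c, h => absurd h (by decide)
  | .f, .d, h => absurd h (by decide)
  | .f, .e, h => absurd h (by decide)
  | .f, .f, _ =>
    allRange_cover _ 31671 10557 3 (by norm_num) (by norm_num) (fun i hi => by
      match i, hi with
      | 0, _ => exact cx_f_f_0
      | 1, _ => exact cx_f_f_1
      | 2, _ => exact cx_f_f_2
      | (k + 3), h => omega)
  | .f, .g, _ =>
    allRange_cover _ 31671 10557 3 (by norm_num) (by norm_num) (fun i hi => by
      match i, hi with
      | 0, _ => exact cx_f_g_0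
      | 1, _ => exact cx_f_g_1
      | 2, _ => exact cx_f_g_2
      | (k + 3), h => omega)
  | .f, .j, _ =>
    allRange_cover _ 31671 10557 3 (by norm_num) (by norm_num) (fun i hi => by
      match i, hi with
      | 0, _ => exact cx_f_j_0
      | 1, _ => exact cx_f_j_1
      | 2, _ => exact cx_f_j_2
      | (k + 3), h => omega)
  | .f, .h, _ =>
    allRange_cover _ 31671 10557 3 (by norm_num) (by norm_num) (fun i hi => by
      match i, hi with
      | 0, _ => exact cx_f_h_0
      | 1, _ => exact cx_f_h_1
      | 2, _ => exact cx_f_h_2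
      | (k + 3), h => omega)
  | .f, .i, _ =>
    allRange_cover _ 31671 10557 3 (by norm_num) (by norm_num) (fun i hi => by
      match i, hi with
      | 0, _ => exact cx_f_i_0
      | 1, _ => exact cx_f_i_1
      | 2, _ => exact cx_f_i_2
      | (k + 3), h => omega)
  | .g, .a, h => absurd h (by decide)
  | .g, .b, h => absurd h (by decide)
  | .g, .c, h => absurd h (by decide)
  | .g, .d, h => absurd h (by decide)
  | .g, .e, h => absurd h (by decide)
  | .g, .f, h => absurd h (by decide)
  | .g, .g, _ =>
    allRange_cover _ 31671 10557 3 (by norm_num) (by norm_num) (fun i hi => by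
      match i, hi with
      | 0, _ => exact cx_g_g_0
      | 1, _ => exact cx_g_g_1
      | 2, _ => exact cx_g_g_2
      | (k + 3), h => omega)
  | .g, .j, _ =>
    allRange_cover _ 31671 10557 3 (by norm_num) (by norm_num) (fun i hi => by
      match i, hi with
      | 0, _ => exact cx_g_j_0
      | 1, _ => exact cx_g_j_1
      | 2, _ => exact cx_g_j_2
      | (k + 3), h => omega)
  | .g, .h, _ =>
    allRange_cover _ 31671 10557 3 (by norm_num) (by norm_num) (fun i hi => by
      match i, hi with
      | 0, _ => exact cx_g_h_0
      | 1, _ => exact cx_g_h_1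
      | 2, _ => exact cx_g_h_2
      | (k + 3), h => omega)
  | .g, .i, _ =>
    allRange_cover _ 31671 10557 3 (by norm_num) (by norm_num) (fun i hi => by
      match i, hi with
      | 0, _ => exact cx_g_i_0
      | 1, _ => exact cx_g_i_1
      | 2, _ => exact cx_g_i_2
      | (k + 3), h => omega)
  | .j, .a, h => absurd h (by decide)
  | .j, .b, h => absurd h (by decide)
  | .j, .c, h => absurd h (by decide)
  | .j, .d, h => absurd h (by decide)
  | .j, .e, h => absurd h (by decide)
  | .j, .f, h => absurd h (by decide)
  | .j, .g, h => absurd h (by decide)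
  | .j, .j, _ =>
    allRange_cover _ 31671 10557 3 (by norm_num) (by norm_num) (fun i hi => by
      match i, hi with
      | 0, _ => exact cx_j_j_0
      | 1, _ => exact cx_j_j_1
      | 2, _ => exact cx_j_j_2
      | (k + 3), h => omega)
  | .j, .h, _ =>
    allRange_cover _ 31671 10557 3 (by norm_num) (by norm_num) (fun i hi => by
      match i, hi with
      | 0, _ => exact cx_j_h_0
      | 1, _ => exact cx_j_h_1
      | 2, _ => exact cx_j_h_2
      | (k + 3), h => omega)
  | .j, .i, _ =>
    allRange_cover _ 31671 10557 3 (by norm_num) (by norm_num) (fun i hi => by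
      match i, hi with
      | 0, _ => exact cx_j_i_0
      | 1, _ => exact cx_j_i_1
      | 2, _ => exact cx_j_i_2
      | (k + 3), h => omega)
  | .h, .a, h => absurd h (by decide)
  | .h, .b, h => absurd h (by decide)
  | .h, .c, h => absurd h (by decide)
  | .h, .d, h => absurd h (by decide)
  | .h, .e, h => absurd h (by decide)
  | .h, .f, h => absurd h (by decide)
  | .h, .g, h => absurd h (by decide)
  | .h, .j, h => absurd h (by decide)
  | .h, .h, _ =>
    allRange_cover _ 31671 10557 3 (by norm_num) (by norm_num) (fun i hi => by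
      match i, hi with
      | 0, _ => exact cx_h_h_0
      | 1, _ => exact cx_h_h_1
      | 2, _ => exact cx_h_h_2
      | (k + 3), h => omega)
  | .h, .i, _ =>
    allRange_cover _ 31671 10557 3 (by norm_num) (by norm_num) (fun i hi => by
      match i, hi with
      | 0, _ => exact cx_h_i_0
      | 1, _ => exact cx_h_i_1
      | 2, _ => exact cx_h_i_2
      | (k + 3), h => omega)
  | .i, .a, h => absurd h (by decide)
  | .i, .b, h => absurd h (by decide)
  | .i, .c, h => absurd h (by decide)
  | .i, .d, h => absurd h (by decide)
  | .i, .e, h => absurd h (by decide)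
  | .i, .f, h => absurd h (by decide)
  | .i, .g, h => absurd h (by decide)
  | .i, .j, h => absurd h (by decide)
  | .i, .h, h => absurd h (by decide)
  | .i, .i, _ =>
    allRange_cover _ 31671 10557 3 (by norm_num) (by norm_num) (fun i hi => by
      match i, hi with
      | 0, _ => exact cx_i_i_0
      | 1, _ => exact cx_i_i_1
      | 2, _ => exact cx_i_i_2
      | (k + 3), h => omega)

theorem w1p_all : ∀ p, p < 31671 → w1P p = true :=
  allRange_cover _ 31671 621 51 (by norm_num) (by norm_num) (fun i hi => by
    match i, hi with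
    | 0, _ => exact w1p_0
    | 1, _ => exact w1p_1
    | 2, _ => exact w1p_2
    | 3, _ => exact w1p_3
    | 4, _ => exact w1p_4
    | 5, _ => exact w1p_5
    | 6, _ => exact w1p_6
    | 7, _ => exact w1p_7
    | 8, _ => exact w1p_8
    | 9, _ => exact w1p_9
    | 10, _ => exact w1p_10
    | 11, _ => exact w1p_11
    | 12, _ => exact w1p_12
    | 13, _ => exact w1p_13
    | 14, _ => exact w1p_14
    | 15, _ => exact w1p_15
    | 16, _ => exact w1p_16
    | 17, _ => exact w1p_17
    | 18, _ => exact w1p_18
    | 19, _ => exact w1p_19
    | 20, _ => exact w1p_20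
    | 21, _ => exact w1p_21
    | 22, _ => exact w1p_22
    | 23, _ => exact w1p_23
    | 24, _ => exact w1p_24
    | 25, _ => exact w1p_25
    | 26, _ => exact w1p_26
    | 27, _ => exact w1p_27
    | 28, _ => exact w1p_28
    | 29, _ => exact w1p_29
    | 30, _ => exact w1p_30
    | 31, _ => exact w1p_31
    | 32, _ => exact w1p_32
    | 33, _ => exact w1p_33
    | 34, _ => exact w1p_34
    | 35, _ => exact w1p_35
    | 36, _ => exact w1p_36
    | 37, _ => exact w1p_37
    | 38, _ => exact w1p_38
    | 39, _ => exact w1p_39
    | 40, _ => exact w1p_40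
    | 41, _ => exact w1p_41
    | 42, _ => exact w1p_42
    | 43, _ => exact w1p_43
    | 44, _ => exact w1p_44
    | 45, _ => exact w1p_45
    | 46, _ => exact w1p_46
    | 47, _ => exact w1p_47
    | 48, _ => exact w1p_48
    | 49, _ => exact w1p_49
    | 50, _ => exact w1p_50
    | (k + 51), h => omega)

theorem w2p_all : ∀ p, p < 31671 → w2P p = true :=
  allRange_cover _ 31671 1173 27 (by norm_num) (by norm_num) (fun i hi => by
    match i, hi with
    | 0, _ => exact w2p_0
    | 1, _ => exact w2p_1
    | 2, _ => exact w2p_2
    | 3, _ => exact w2p_3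
    | 4, _ => exact w2p_4
    | 5, _ => exact w2p_5
    | 6, _ => exact w2p_6
    | 7, _ => exact w2p_7
    | 8, _ => exact w2p_8
    | 9, _ => exact w2p_9
    | 10, _ => exact w2p_10
    | 11, _ => exact w2p_11
    | 12, _ => exact w2p_12
    | 13, _ => exact w2p_13
    | 14, _ => exact w2p_14
    | 15, _ => exact w2p_15
    | 16, _ => exact w2p_16
    | 17, _ => exact w2p_17
    | 18, _ => exact w2p_18
    | 19, _ => exact w2p_19
    | 20, _ => exact w2p_20
    | 21, _ => exact w2p_21
    | 22, _ => exact w2p_22
    | 23, _ => exact w2p_23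
    | 24, _ => exact w2p_24
    | 25, _ => exact w2p_25
    | 26, _ => exact w2p_26
    | (k + 27), h => omega)

end

end Cfsg.Agent.Helper27.Fi23
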