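import Cfsg.Agent.Lib.Helper27.Fi22.Tower
import Cfsg.Agent.Lib.Helper27.Fi22.F0.Ent
import Cfsg.Agent.Lib.Helper27.Fi22.F1.Ent
import Cfsg.Agent.Lib.Helper92.Fi23Glue
import Cfsg.Agent.Lib.Helper28.S1689.Certs

/-!
# The order of the presented group Fi23 is at most 4089470473293004800

`Fi23 ≥ ⟨a,…,i⟩` (index 31671, statement S1689); the subgroup is covered by the presented group
`⟨a,…,i | Y₃₃₂, spider, (abcdefh)^9⟩`, whose order is bounded by a tower of verified coset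
tables of sizes 14080, 728, 243, 72 and 720.
-/

set_option autoImplicit false
set_option maxRecDepth 100000
set_option linter.all false

namespace Cfsg.Agent.Helper27.Fi23Tower

open Cfsg.Agent.Helper28 Cfsg.Agent.Helper27.Fi22TC Cfsg.Agent.Helper27.Fi22Glue
open Cfsg.Agent.Helper27.Fi22Tower

/-- live generators of level F1 -/
def liveF1 : Cfsg.Spor.Fi22.Gen → Bool
  | .a => false
  | _ => true

/-- the renaming of the generators -/
def ren : Cfsg.Spor.Fi22.Gen → Cfsg.Spor.Fi23.Gen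
  | .a => .a | .b => .b | .c => .c | .d => .d | .e => .e | .f => .f | .g => .g | .h => .h | .i => .i

theorem hom_A2_F1 : ∃ f : PresentedGroup A2.D.rels →* PresentedGroup F1.D.rels,
    ∀ x, liveA2 x = true → f (PresentedGroup.of x) = PresentedGroup.of x :=
  exists_hom_of_words F1.D.rels A2.D.relL liveA2 (show ∀ w ∈ A2.relL, _ from
    List.forall_mem_cons.2 ⟨Or.inl ⟨Cfsg.Spor.Fi22.Gen.a, rfl, rfl⟩,
    List.forall_mem_cons.2 ⟨Or.inl ⟨Cfsg.Spor.Fi22.Gen.g, rfl, rfl⟩,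
    List.forall_mem_cons.2 ⟨Or.inr ⟨by decide, F1.relone_1⟩,
    List.forall_mem_cons.2 ⟨Or.inr ⟨by decide, F1.relone_2⟩,
    List.forall_mem_cons.2 ⟨Or.inr ⟨by decide, F1.relone_3⟩,
    List.forall_mem_cons.2 ⟨Or.inr ⟨by decide, F1.relone_4⟩,
    List.forall_mem_cons.2 ⟨Or.inr ⟨by decide, F1.relone_5⟩,
    List.forall_mem_cons.2 ⟨Or.inr ⟨by decide, F1.relone_7⟩,
    List.forall_mem_cons.2 ⟨Or.inr ⟨by decide, F1.relone_8⟩,
    List.forall_mem_cons.2 ⟨Or.inr ⟨by decide, F1.relone_9⟩,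
    List.forall_mem_cons.2 ⟨Or.inr ⟨by decide, F1.relone_10⟩,
    List.forall_mem_cons.2 ⟨Or.inr ⟨by decide, F1.relone_11⟩,
    List.forall_mem_cons.2 ⟨Or.inr ⟨by decide, F1.relone_12⟩,
    List.forall_mem_cons.2 ⟨Or.inr ⟨by decide, F1.relone_14⟩,
    List.forall_mem_cons.2 ⟨Or.inr ⟨by decide, F1.relone_15⟩,
    List.forall_mem_cons.2 ⟨Or.inr ⟨by decide, F1.relone_16⟩,
    List.forall_mem_cons.2 ⟨Or.inr ⟨by decide, F1.relone_17⟩,
    List.forall_mem_cons.2 ⟨Or.inr ⟨by decide, F1.relone_18⟩,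
    List.forall_mem_cons.2 ⟨Or.inr ⟨by decide, F1.relone_20⟩,
    List.forall_mem_cons.2 ⟨Or.inr ⟨by decide, F1.relone_21⟩,
    List.forall_mem_cons.2 ⟨Or.inr ⟨by decide, F1.relone_22⟩,
    List.forall_mem_cons.2 ⟨Or.inr ⟨by decide, F1.relone_23⟩,
    List.forall_mem_cons.2 ⟨Or.inr ⟨by decide, F1.relone_25⟩,
    List.forall_mem_cons.2 ⟨Or.inr ⟨by decide, F1.relone_26⟩,
    List.forall_mem_cons.2 ⟨Or.inr ⟨by decide, F1.relone_27⟩,
    List.forall_mem_cons.2 ⟨Or.inr ⟨by decide, F1.relone_29⟩,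
    List.forall_mem_cons.2 ⟨Or.inr ⟨by decide, F1.relone_30⟩,
    List.forall_mem_cons.2 ⟨Or.inr ⟨by decide, F1.relone_32⟩,
    List.forall_mem_cons.2 ⟨Or.inr ⟨by decide, F1.relone_33⟩,
    List.forall_mem_cons.2 ⟨Or.inr ⟨by decide, F1.relone_36⟩,
    List.forall_mem_cons.2 ⟨Or.inr ⟨by decide, F1.relone_37⟩,
    (fun _ hw => (List.not_mem_nil hw).elim)⟩⟩⟩⟩⟩⟩⟩⟩⟩⟩⟩⟩⟩⟩⟩⟩⟩⟩⟩⟩⟩⟩⟩⟩⟩⟩⟩⟩⟩⟩⟩)

theorem hom_F1_F0 : ∃ f : PresentedGroup F1.D.rels →* PresentedGroup F0.D.rels,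
    ∀ x, liveF1 x = true → f (PresentedGroup.of x) = PresentedGroup.of x :=
  exists_hom_of_words F0.D.rels F1.D.relL liveF1 (show ∀ w ∈ F1.relL, _ from
    List.forall_mem_cons.2 ⟨Or.inl ⟨Cfsg.Spor.Fi22.Gen.a, rfl, rfl⟩,
    List.forall_mem_cons.2 ⟨Or.inr ⟨by decide, F0.relone_1⟩,
    List.forall_mem_cons.2 ⟨Or.inr ⟨by decide, F0.relone_2⟩,
    List.forall_mem_cons.2 ⟨Or.inr ⟨by decide, F0.relone_3⟩,
    List.forall_mem_cons.2 ⟨Or.inr ⟨by decide, F0.relone_4⟩,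
    List.forall_mem_cons.2 ⟨Or.inr ⟨by decide, F0.relone_5⟩,
    List.forall_mem_cons.2 ⟨Or.inr ⟨by decide, F0.relone_6⟩,
    List.forall_mem_cons.2 ⟨Or.inr ⟨by decide, F0.relone_7⟩,
    List.forall_mem_cons.2 ⟨Or.inr ⟨by decide, F0.relone_8⟩,
    List.forall_mem_cons.2 ⟨Or.inr ⟨by decide, F0.relone_17⟩,
    List.forall_mem_cons.2 ⟨Or.inr ⟨by decide, F0.relone_18⟩,
    List.forall_mem_cons.2 ⟨Or.inr ⟨by decide, F0.relone_19⟩,
    List.forall_mem_cons.2 ⟨Or.inr ⟨by decide, F0.relone_20⟩,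
    List.forall_mem_cons.2 ⟨Or.inr ⟨by decide, F0.relone_21⟩,
    List.forall_mem_cons.2 ⟨Or.inr ⟨by decide, F0.relone_22⟩,
    List.forall_mem_cons.2 ⟨Or.inr ⟨by decide, F0.relone_23⟩,
    List.forall_mem_cons.2 ⟨Or.inr ⟨by decide, F0.relone_24⟩,
    List.forall_mem_cons.2 ⟨Or.inr ⟨by decide, F0.relone_25⟩,
    List.forall_mem_cons.2 ⟨Or.inr ⟨by decide, F0.relone_26⟩,
    List.forall_mem_cons.2 ⟨Or.inr ⟨by decide, F0.relone_27⟩,
    List.forall_mem_cons.2 ⟨Or.inr ⟨by decide, F0.relone_28⟩,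
    List.forall_mem_cons.2 ⟨Or.inr ⟨by decide, F0.relone_29⟩,
    List.forall_mem_cons.2 ⟨Or.inr ⟨by decide, F0.relone_30⟩,
    List.forall_mem_cons.2 ⟨Or.inr ⟨by decide, F0.relone_31⟩,
    List.forall_mem_cons.2 ⟨Or.inr ⟨by decide, F0.relone_32⟩,
    List.forall_mem_cons.2 ⟨Or.inr ⟨by decide, F0.relone_33⟩,
    List.forall_mem_cons.2 ⟨Or.inr ⟨by decide, F0.relone_34⟩,
    List.forall_mem_cons.2 ⟨Or.inr ⟨by decide, F0.relone_35⟩,
    List.forall_mem_cons.2 ⟨Or.inr ⟨by decide, F0.relone_36⟩,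
    List.forall_mem_cons.2 ⟨Or.inr ⟨by decide, F0.relone_37⟩,
    List.forall_mem_cons.2 ⟨Or.inr ⟨by decide, F0.relone_38⟩,
    List.forall_mem_cons.2 ⟨Or.inr ⟨by decide, F0.relone_39⟩,
    List.forall_mem_cons.2 ⟨Or.inr ⟨by decide, F0.relone_40⟩,
    List.forall_mem_cons.2 ⟨Or.inr ⟨by decide, F0.relone_41⟩,
    List.forall_mem_cons.2 ⟨Or.inr ⟨by decide, F0.relone_42⟩,
    List.forall_mem_cons.2 ⟨Or.inr ⟨by decide, F0.relone_43⟩,
    List.forall_mem_cons.2 ⟨Or.inr ⟨by decide, F0.relone_44⟩,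
    List.forall_mem_cons.2 ⟨Or.inr ⟨by decide, F0.relone_45⟩,
    (fun _ hw => (List.not_mem_nil hw).elim)⟩⟩⟩⟩⟩⟩⟩⟩⟩⟩⟩⟩⟩⟩⟩⟩⟩⟩⟩⟩⟩⟩⟩⟩⟩⟩⟩⟩⟩⟩⟩⟩⟩⟩⟩⟩⟩⟩)

theorem hom_F0_Fi23 : ∃ f : PresentedGroup F0.D.rels →* PresentedGroup Cfsg.Agent.Helper28.S1689.rels,
    ∀ x, f (PresentedGroup.of x) = PresentedGroup.of (ren x) :=
  Cfsg.Agent.Helper92.Fi23Glue.exists_hom_rename ren Cfsg.Agent.Helper28.S1689.rels F0.D.relL
    (show ∀ w ∈ F0.relL, _ from
    List.forall_mem_cons.2 ⟨(show wG Cfsg.Agent.Helper28.S1689.rels (F0.R0.map (fun l => (ren l.1, l.2))) = 1 from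
      (show F0.R0.map (fun l => (ren l.1, l.2)) = Cfsg.Agent.Helper28.S1689.relW_0 from by decide) ▸ Cfsg.Agent.Helper28.S1689.relone_0),
    List.forall_mem_cons.2 ⟨(show wG Cfsg.Agent.Helper28.S1689.rels (F0.R1.map (fun l => (ren l.1, l.2))) = 1 from
      (show F0.R1.map (fun l => (ren l.1, l.2)) = Cfsg.Agent.Helper28.S1689.relW_10 from by decide) ▸ Cfsg.Agent.Helper28.S1689.relone_10),
    List.forall_mem_cons.2 ⟨(show wG Cfsg.Agent.Helper28.S1689.rels (F0.R2.map (fun l => (ren l.1, l.2))) = 1 from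
      (show F0.R2.map (fun l => (ren l.1, l.2)) = Cfsg.Agent.Helper28.S1689.relW_19 from by decide) ▸ Cfsg.Agent.Helper28.S1689.relone_19),
    List.forall_mem_cons.2 ⟨(show wG Cfsg.Agent.Helper28.S1689.rels (F0.R3.map (fun l => (ren l.1, l.2))) = 1 from
      (show F0.R3.map (fun l => (ren l.1, l.2)) = Cfsg.Agent.Helper28.S1689.relW_27 from by decide) ▸ Cfsg.Agent.Helper28.S1689.relone_27),
    List.forall_mem_cons.2 ⟨(show wG Cfsg.Agent.Helper28.S1689.rels (F0.R4.map (fun l => (ren l.1, l.2))) = 1 from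
      (show F0.R4.map (fun l => (ren l.1, l.2)) = Cfsg.Agent.Helper28.S1689.relW_34 from by decide) ▸ Cfsg.Agent.Helper28.S1689.relone_34),
    List.forall_mem_cons.2 ⟨(show wG Cfsg.Agent.Helper28.S1689.rels (F0.R5.map (fun l => (ren l.1, l.2))) = 1 from
      (show F0.R5.map (fun l => (ren l.1, l.2)) = Cfsg.Agent.Helper28.S1689.relW_43 from by decide) ▸ Cfsg.Agent.Helper28.S1689.relone_43),
    List.forall_mem_cons.2 ⟨(show wG Cfsg.Agent.Helper28.S1689.rels (F0.R6.map (fun l => (ren l.1, l.2))) = 1 from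
      (show F0.R6.map (fun l => (ren l.1, l.2)) = Cfsg.Agent.Helper28.S1689.relW_48 from by decide) ▸ Cfsg.Agent.Helper28.S1689.relone_48),
    List.forall_mem_cons.2 ⟨(show wG Cfsg.Agent.Helper28.S1689.rels (F0.R7.map (fun l => (ren l.1, l.2))) = 1 from
      (show F0.R7.map (fun l => (ren l.1, l.2)) = Cfsg.Agent.Helper28.S1689.relW_40 from by decide) ▸ Cfsg.Agent.Helper28.S1689.relone_40),
    List.forall_mem_cons.2 ⟨(show wG Cfsg.Agent.Helper28.S1689.rels (F0.R8.map (fun l => (ren l.1, l.2))) = 1 from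
      (show F0.R8.map (fun l => (ren l.1, l.2)) = Cfsg.Agent.Helper28.S1689.relW_54 from by decide) ▸ Cfsg.Agent.Helper28.S1689.relone_54),
    List.forall_mem_cons.2 ⟨(show wG Cfsg.Agent.Helper28.S1689.rels (F0.R9.map (fun l => (ren l.1, l.2))) = 1 from
      (show F0.R9.map (fun l => (ren l.1, l.2)) = Cfsg.Agent.Helper28.S1689.relW_1 from by decide) ▸ Cfsg.Agent.Helper28.S1689.relone_1),
    List.forall_mem_cons.2 ⟨(show wG Cfsg.Agent.Helper28.S1689.rels (F0.R10.map (fun l => (ren l.1, l.2))) = 1 from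
      (show F0.R10.map (fun l => (ren l.1, l.2)) = Cfsg.Agent.Helper28.S1689.relW_2 from by decide) ▸ Cfsg.Agent.Helper28.S1689.relone_2),
    List.forall_mem_cons.2 ⟨(show wG Cfsg.Agent.Helper28.S1689.rels (F0.R11.map (fun l => (ren l.1, l.2))) = 1 from
      (show F0.R11.map (fun l => (ren l.1, l.2)) = Cfsg.Agent.Helper28.S1689.relW_3 from by decide) ▸ Cfsg.Agent.Helper28.S1689.relone_3),
    List.forall_mem_cons.2 ⟨(show wG Cfsg.Agent.Helper28.S1689.rels (F0.R12.map (fun l => (ren l.1, l.2))) = 1 from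
      (show F0.R12.map (fun l => (ren l.1, l.2)) = Cfsg.Agent.Helper28.S1689.relW_4 from by decide) ▸ Cfsg.Agent.Helper28.S1689.relone_4),
    List.forall_mem_cons.2 ⟨(show wG Cfsg.Agent.Helper28.S1689.rels (F0.R13.map (fun l => (ren l.1, l.2))) = 1 from
      (show F0.R13.map (fun l => (ren l.1, l.2)) = Cfsg.Agent.Helper28.S1689.relW_6 from by decide) ▸ Cfsg.Agent.Helper28.S1689.relone_6),
    List.forall_mem_cons.2 ⟨(show wG Cfsg.Agent.Helper28.S1689.rels (F0.R14.map (fun l => (ren l.1, l.2))) = 1 from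
      (show F0.R14.map (fun l => (ren l.1, l.2)) = Cfsg.Agent.Helper28.S1689.relW_7 from by decide) ▸ Cfsg.Agent.Helper28.S1689.relone_7),
    List.forall_mem_cons.2 ⟨(show wG Cfsg.Agent.Helper28.S1689.rels (F0.R15.map (fun l => (ren l.1, l.2))) = 1 from
      (show F0.R15.map (fun l => (ren l.1, l.2)) = Cfsg.Agent.Helper28.S1689.relW_5 from by decide) ▸ Cfsg.Agent.Helper28.S1689.relone_5),
    List.forall_mem_cons.2 ⟨(show wG Cfsg.Agent.Helper28.S1689.rels (F0.R16.map (fun l => (ren l.1, l.2))) = 1 from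
      (show F0.R16.map (fun l => (ren l.1, l.2)) = Cfsg.Agent.Helper28.S1689.relW_9 from by decide) ▸ Cfsg.Agent.Helper28.S1689.relone_9),
    List.forall_mem_cons.2 ⟨(show wG Cfsg.Agent.Helper28.S1689.rels (F0.R17.map (fun l => (ren l.1, l.2))) = 1 from
      (show F0.R17.map (fun l => (ren l.1, l.2)) = Cfsg.Agent.Helper28.S1689.relW_11 from by decide) ▸ Cfsg.Agent.Helper28.S1689.relone_11),
    List.forall_mem_cons.2 ⟨(show wG Cfsg.Agent.Helper28.S1689.rels (F0.R18.map (fun l => (ren l.1, l.2))) = 1 from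
      (show F0.R18.map (fun l => (ren l.1, l.2)) = Cfsg.Agent.Helper28.S1689.relW_12 from by decide) ▸ Cfsg.Agent.Helper28.S1689.relone_12),
    List.forall_mem_cons.2 ⟨(show wG Cfsg.Agent.Helper28.S1689.rels (F0.R19.map (fun l => (ren l.1, l.2))) = 1 from
      (show F0.R19.map (fun l => (ren l.1, l.2)) = Cfsg.Agent.Helper28.S1689.relW_13 from by decide) ▸ Cfsg.Agent.Helper28.S1689.relone_13),
    List.forall_mem_cons.2 ⟨(show wG Cfsg.Agent.Helper28.S1689.rels (F0.R20.map (fun l => (ren l.1, l.2))) = 1 from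
      (show F0.R20.map (fun l => (ren l.1, l.2)) = Cfsg.Agent.Helper28.S1689.relW_15 from by decide) ▸ Cfsg.Agent.Helper28.S1689.relone_15),
    List.forall_mem_cons.2 ⟨(show wG Cfsg.Agent.Helper28.S1689.rels (F0.R21.map (fun l => (ren l.1, l.2))) = 1 from
      (show F0.R21.map (fun l => (ren l.1, l.2)) = Cfsg.Agent.Helper28.S1689.relW_16 from by decide) ▸ Cfsg.Agent.Helper28.S1689.relone_16),
    List.forall_mem_cons.2 ⟨(show wG Cfsg.Agent.Helper28.S1689.rels (F0.R22.map (fun l => (ren l.1, l.2))) = 1 from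
      (show F0.R22.map (fun l => (ren l.1, l.2)) = Cfsg.Agent.Helper28.S1689.relW_14 from by decide) ▸ Cfsg.Agent.Helper28.S1689.relone_14),
    List.forall_mem_cons.2 ⟨(show wG Cfsg.Agent.Helper28.S1689.rels (F0.R23.map (fun l => (ren l.1, l.2))) = 1 from
      (show F0.R23.map (fun l => (ren l.1, l.2)) = Cfsg.Agent.Helper28.S1689.relW_18 from by decide) ▸ Cfsg.Agent.Helper28.S1689.relone_18),
    List.forall_mem_cons.2 ⟨(show wG Cfsg.Agent.Helper28.S1689.rels (F0.R24.map (fun l => (ren l.1, l.2))) = 1 from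
      (show F0.R24.map (fun l => (ren l.1, l.2)) = Cfsg.Agent.Helper28.S1689.relW_20 from by decide) ▸ Cfsg.Agent.Helper28.S1689.relone_20),
    List.forall_mem_cons.2 ⟨(show wG Cfsg.Agent.Helper28.S1689.rels (F0.R25.map (fun l => (ren l.1, l.2))) = 1 from
      (show F0.R25.map (fun l => (ren l.1, l.2)) = Cfsg.Agent.Helper28.S1689.relW_21 from by decide) ▸ Cfsg.Agent.Helper28.S1689.relone_21),
    List.forall_mem_cons.2 ⟨(show wG Cfsg.Agent.Helper28.S1689.rels (F0.R26.map (fun l => (ren l.1, l.2))) = 1 from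
      (show F0.R26.map (fun l => (ren l.1, l.2)) = Cfsg.Agent.Helper28.S1689.relW_23 from by decide) ▸ Cfsg.Agent.Helper28.S1689.relone_23),
    List.forall_mem_cons.2 ⟨(show wG Cfsg.Agent.Helper28.S1689.rels (F0.R27.map (fun l => (ren l.1, l.2))) = 1 from
      (show F0.R27.map (fun l => (ren l.1, l.2)) = Cfsg.Agent.Helper28.S1689.relW_24 from by decide) ▸ Cfsg.Agent.Helper28.S1689.relone_24),
    List.forall_mem_cons.2 ⟨(show wG Cfsg.Agent.Helper28.S1689.rels (F0.R28.map (fun l => (ren l.1, l.2))) = 1 from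
      (show F0.R28.map (fun l => (ren l.1, l.2)) = Cfsg.Agent.Helper28.S1689.relW_22 from by decide) ▸ Cfsg.Agent.Helper28.S1689.relone_22),
    List.forall_mem_cons.2 ⟨(show wG Cfsg.Agent.Helper28.S1689.rels (F0.R29.map (fun l => (ren l.1, l.2))) = 1 from
      (show F0.R29.map (fun l => (ren l.1, l.2)) = Cfsg.Agent.Helper28.S1689.relW_26 from by decide) ▸ Cfsg.Agent.Helper28.S1689.relone_26),
    List.forall_mem_cons.2 ⟨(show wG Cfsg.Agent.Helper28.S1689.rels (F0.R30.map (fun l => (ren l.1, l.2))) = 1 from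
      (show F0.R30.map (fun l => (ren l.1, l.2)) = Cfsg.Agent.Helper28.S1689.relW_28 from by decide) ▸ Cfsg.Agent.Helper28.S1689.relone_28),
    List.forall_mem_cons.2 ⟨(show wG Cfsg.Agent.Helper28.S1689.rels (F0.R31.map (fun l => (ren l.1, l.2))) = 1 from
      (show F0.R31.map (fun l => (ren l.1, l.2)) = Cfsg.Agent.Helper28.S1689.relW_30 from by decide) ▸ Cfsg.Agent.Helper28.S1689.relone_30),
    List.forall_mem_cons.2 ⟨(show wG Cfsg.Agent.Helper28.S1689.rels (F0.R32.map (fun l => (ren l.1, l.2))) = 1 from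
      (show F0.R32.map (fun l => (ren l.1, l.2)) = Cfsg.Agent.Helper28.S1689.relW_31 from by decide) ▸ Cfsg.Agent.Helper28.S1689.relone_31),
    List.forall_mem_cons.2 ⟨(show wG Cfsg.Agent.Helper28.S1689.rels (F0.R33.map (fun l => (ren l.1, l.2))) = 1 from
      (show F0.R33.map (fun l => (ren l.1, l.2)) = Cfsg.Agent.Helper28.S1689.relW_29 from by decide) ▸ Cfsg.Agent.Helper28.S1689.relone_29),
    List.forall_mem_cons.2 ⟨(show wG Cfsg.Agent.Helper28.S1689.rels (F0.R34.map (fun l => (ren l.1, l.2))) = 1 from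
      (show F0.R34.map (fun l => (ren l.1, l.2)) = Cfsg.Agent.Helper28.S1689.relW_33 from by decide) ▸ Cfsg.Agent.Helper28.S1689.relone_33),
    List.forall_mem_cons.2 ⟨(show wG Cfsg.Agent.Helper28.S1689.rels (F0.R35.map (fun l => (ren l.1, l.2))) = 1 from
      (show F0.R35.map (fun l => (ren l.1, l.2)) = Cfsg.Agent.Helper28.S1689.relW_36 from by decide) ▸ Cfsg.Agent.Helper28.S1689.relone_36),
    List.forall_mem_cons.2 ⟨(show wG Cfsg.Agent.Helper28.S1689.rels (F0.R36.map (fun l => (ren l.1, l.2))) = 1 from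
      (show F0.R36.map (fun l => (ren l.1, l.2)) = Cfsg.Agent.Helper28.S1689.relW_37 from by decide) ▸ Cfsg.Agent.Helper28.S1689.relone_37),
    List.forall_mem_cons.2 ⟨(show wG Cfsg.Agent.Helper28.S1689.rels (F0.R37.map (fun l => (ren l.1, l.2))) = 1 from
      (show F0.R37.map (fun l => (ren l.1, l.2)) = Cfsg.Agent.Helper28.S1689.relW_35 from by decide) ▸ Cfsg.Agent.Helper28.S1689.relone_35),
    List.forall_mem_cons.2 ⟨(show wG Cfsg.Agent.Helper28.S1689.rels (F0.R38.map (fun l => (ren l.1, l.2))) = 1 from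
      (show F0.R38.map (fun l => (ren l.1, l.2)) = Cfsg.Agent.Helper28.S1689.relW_39 from by decide) ▸ Cfsg.Agent.Helper28.S1689.relone_39),
    List.forall_mem_cons.2 ⟨(show wG Cfsg.Agent.Helper28.S1689.rels (F0.R39.map (fun l => (ren l.1, l.2))) = 1 from
      (show F0.R39.map (fun l => (ren l.1, l.2)) = Cfsg.Agent.Helper28.S1689.relW_44 from by decide) ▸ Cfsg.Agent.Helper28.S1689.relone_44),
    List.forall_mem_cons.2 ⟨(show wG Cfsg.Agent.Helper28.S1689.rels (F0.R40.map (fun l => (ren l.1, l.2))) = 1 from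
      (show F0.R40.map (fun l => (ren l.1, l.2)) = Cfsg.Agent.Helper28.S1689.relW_42 from by decide) ▸ Cfsg.Agent.Helper28.S1689.relone_42),
    List.forall_mem_cons.2 ⟨(show wG Cfsg.Agent.Helper28.S1689.rels (F0.R41.map (fun l => (ren l.1, l.2))) = 1 from
      (show F0.R41.map (fun l => (ren l.1, l.2)) = Cfsg.Agent.Helper28.S1689.relW_46 from by decide) ▸ Cfsg.Agent.Helper28.S1689.relone_46),
    List.forall_mem_cons.2 ⟨(show wG Cfsg.Agent.Helper28.S1689.rels (F0.R42.map (fun l => (ren l.1, l.2))) = 1 from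
      (show F0.R42.map (fun l => (ren l.1, l.2)) = Cfsg.Agent.Helper28.S1689.relW_47 from by decide) ▸ Cfsg.Agent.Helper28.S1689.relone_47),
    List.forall_mem_cons.2 ⟨(show wG Cfsg.Agent.Helper28.S1689.rels (F0.R43.map (fun l => (ren l.1, l.2))) = 1 from
      (show F0.R43.map (fun l => (ren l.1, l.2)) = Cfsg.Agent.Helper28.S1689.relW_50 from by decide) ▸ Cfsg.Agent.Helper28.S1689.relone_50),
    List.forall_mem_cons.2 ⟨(show wG Cfsg.Agent.Helper28.S1689.rels (F0.R44.map (fun l => (ren l.1, l.2))) = 1 from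
      (show F0.R44.map (fun l => (ren l.1, l.2)) = Cfsg.Agent.Helper28.S1689.relW_41 from by decide) ▸ Cfsg.Agent.Helper28.S1689.relone_41),
    List.forall_mem_cons.2 ⟨(show wG Cfsg.Agent.Helper28.S1689.rels (F0.R45.map (fun l => (ren l.1, l.2))) = 1 from
      (show F0.R45.map (fun l => (ren l.1, l.2)) = Cfsg.Agent.Helper28.S1689.relW_55 from by decide) ▸ Cfsg.Agent.Helper28.S1689.relone_55),
    List.forall_mem_cons.2 ⟨(show wG Cfsg.Agent.Helper28.S1689.rels (F0.R46.map (fun l => (ren l.1, l.2))) = 1 from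
      (show F0.R46.map (fun l => (ren l.1, l.2)) = Cfsg.Agent.Helper28.S1689.relW_56 from by decide) ▸ Cfsg.Agent.Helper28.S1689.relone_56),
    (fun _ hw => (List.not_mem_nil hw).elim)⟩⟩⟩⟩⟩⟩⟩⟩⟩⟩⟩⟩⟩⟩⟩⟩⟩⟩⟩⟩⟩⟩⟩⟩⟩⟩⟩⟩⟩⟩⟩⟩⟩⟩⟩⟩⟩⟩⟩⟩⟩⟩⟩⟩⟩⟩⟩)

theorem card_F1 : Finite (PresentedGroup F1.D.rels) ∧
    Nat.card (PresentedGroup F1.D.rels) ≤ 728 * (243 * (72 * (720))) := by
  obtain ⟨hf, hc⟩ := card_A2
  obtain ⟨f, hff⟩ := hom_A2_F1
  have hsub : ∀ x ∈ F1.D.subL, liveA2 x = true := by decide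
  have hH : subH F1.D.rels F1.D.S ≤ f.range :=
    map_closure_le_range F1.D.rels liveA2 f (fun x => PresentedGroup.of x) hff F1.D.S (by
      rintro s ⟨x, hx, rfl⟩
      exact ⟨x, hsub x hx, rfl⟩)
  obtain ⟨hfin, hcard⟩ := finite_card_le_of_index (subH F1.D.rels F1.D.S) 728 (by norm_num)
    F1.index_eq f hH
  exact ⟨hfin, hcard.trans (Nat.mul_le_mul_left 728 hc)⟩

theorem card_F0 : Finite (PresentedGroup F0.D.rels) ∧
    Nat.card (PresentedGroup F0.D.rels) ≤ 14080 * (728 * (243 * (72 * (720)))) := by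
  obtain ⟨hf, hc⟩ := card_F1
  obtain ⟨f, hff⟩ := hom_F1_F0
  have hsub : ∀ x ∈ F0.D.subL, liveF1 x = true := by decide
  have hH : subH F0.D.rels F0.D.S ≤ f.range :=
    map_closure_le_range F0.D.rels liveF1 f (fun x => PresentedGroup.of x) hff F0.D.S (by
      rintro s ⟨x, hx, rfl⟩
      exact ⟨x, hsub x hx, rfl⟩)
  obtain ⟨hfin, hcard⟩ := finite_card_le_of_index (subH F0.D.rels F0.D.S) 14080 (by norm_num)
    F0.index_eq f hH
  exact ⟨hfin, hcard.trans (Nat.mul_le_mul_left 14080 hc)⟩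

/-- the statement S1689: index and suborbits of `⟨a,…,i⟩` in the presented group Fi23 -/
abbrev Stmt89 : Prop :=
  (((Subgroup.closure ({Cfsg.Spor.Fi23.a, Cfsg.Spor.Fi23.b, Cfsg.Spor.Fi23.c, Cfsg.Spor.Fi23.d, Cfsg.Spor.Fi23.e, Cfsg.Spor.Fi23.f, Cfsg.Spor.Fi23.g, Cfsg.Spor.Fi23.h, Cfsg.Spor.Fi23.i} : Set (FreeGroup Cfsg.Spor.Fi23.Gen))).map (PresentedGroup.mk (Cfsg.Spor.coxRelators Cfsg.Spor.Fi23.edges ∪ {r | r ∈ Cfsg.Spor.Fi23.extra})))).index = 31671 ∧ ∃ q₁ q₂ : Cfsg.Spor.Fi23 ⧸ (((Subgroup.closure ({Cfsg.Spor.Fi23.a, Cfsg.Spor.Fi23.b, Cfsg.Spor.Fi23.c, Cfsg.Spor.Fi23.d, Cfsg.Spor.Fi23.e, Cfsg.Spor.Fi23.f, Cfsg.Spor.Fi23.g, Cfsg.Spor.Fi23.h, Cfsg.Spor.Fi23.i} : Set (FreeGroup Cfsg.Spor.Fi23.Gen))).map (PresentedGroup.mk (Cfsg.Spor.coxRelators Cfsg.Spor.Fi23.edges ∪ {r | r ∈ Cfsg.Spor.Fi23.extra})))), (MulAction.orbit (((Subgroup.closure ({Cfsg.Spor.Fi23.a, Cfsg.Spor.Fi23.b, Cfsg.Spor.Fi23.c,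 Cfsg.Spor.Fi23.d, Cfsg.Spor.Fi23.e, Cfsg.Spor.Fi23.f, Cfsg.Spor.Fi23.g, Cfsg.Spor.Fi23.h, Cfsg.Spor.Fi23.i} : Set (FreeGroup Cfsg.Spor.Fi23.Gen))).map (PresentedGroup.mk (Cfsg.Spor.coxRelators Cfsg.Spor.Fi23.edges ∪ {r | r ∈ Cfsg.Spor.Fi23.extra})))) q₁).ncard = 3510 ∧ (MulAction.orbit (((Subgroup.closure ({Cfsg.Spor.Fi23.a, Cfsg.Spor.Fi23.b, Cfsg.Spor.Fi23.c, Cfsg.Spor.Fi23.d, Cfsg.Spor.Fi23.e, Cfsg.Spor.Fi23.f, Cfsg.Spor.Fi23.g, Cfsg.Spor.Fi23.h, Cfsg.Spor.Fi23.i} : Set (FreeGroup Cfsg.Spor.Fi23.Gen))).map (PresentedGroup.mk (Cfsg.Spor.coxRelators Cfsg.Spor.Fi23.edges ∪ {r | r ∈ Cfsg.Spor.Fi23.extra})))) q₂).ncard = 28160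

/-- the presented group Fi23 is finite of order at most 4089470473293004800 -/
theorem card_Fi23 (h89 : Stmt89) : Finite Cfsg.Spor.Fi23 ∧ Nat.card Cfsg.Spor.Fi23 ≤ 4089470473293004800 := by
  obtain ⟨hf, hc⟩ := card_F0
  obtain ⟨f, hff⟩ := hom_F0_Fi23
  have hH : ((Subgroup.closure ({Cfsg.Spor.Fi23.a, Cfsg.Spor.Fi23.b, Cfsg.Spor.Fi23.c, Cfsg.Spor.Fi23.d,
      Cfsg.Spor.Fi23.e, Cfsg.Spor.Fi23.f, Cfsg.Spor.Fi23.g, Cfsg.Spor.Fi23.h, Cfsg.Spor.Fi23.i} :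
        Set (FreeGroup Cfsg.Spor.Fi23.Gen))).map
      (PresentedGroup.mk Cfsg.Agent.Helper28.S1689.rels)) ≤ f.range :=
    Cfsg.Agent.Helper92.Fi23Glue.map_closure_le_range_rename ren Cfsg.Agent.Helper28.S1689.rels f
      (fun x => PresentedGroup.of x) hff _ (by
      intro s hs
      simp only [Set.mem_insert_iff, Set.mem_singleton_iff] at hs
      rcases hs with rfl | rfl | rfl | rfl | rfl | rfl | rfl | rfl | rfl
      · exact ⟨.a, rfl⟩
      · exact ⟨.b, rfl⟩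
      · exact ⟨.c, rfl⟩
      · exact ⟨.d, rfl⟩
      · exact ⟨.e, rfl⟩
      · exact ⟨.f, rfl⟩
      · exact ⟨.g, rfl⟩
      · exact ⟨.h, rfl⟩
      · exact ⟨.i, rfl⟩)
  obtain ⟨hfin, hcard⟩ := finite_card_le_of_index _ 31671 (by norm_num) h89.1 f hH
  refine ⟨hfin, hcard.trans ?_⟩
  calc 31671 * Nat.card (PresentedGroup F0.D.rels)
      ≤ 31671 * (14080 * (728 * (243 * (72 * (720))))) := Nat.mul_le_mul_left 31671 hc
    _ = 4089470473293004800 := by norm_num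

end Cfsg.Agent.Helper27.Fi23Tower
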