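import Cfsg.Agent.Lib.Helper27.Fi23.ChkZa_0
import Cfsg.Agent.Lib.Helper27.Fi23.ChkZa_1
import Cfsg.Agent.Lib.Helper27.Fi23.ChkZa_2
import Cfsg.Agent.Lib.Helper27.Fi23.ChkZb_0
import Cfsg.Agent.Lib.Helper27.Fi23.ChkZb_1
import Cfsg.Agent.Lib.Helper27.Fi23.ChkZc_0
import Cfsg.Agent.Lib.Helper27.Fi23.ChkZc_1
import Cfsg.Agent.Lib.Helper27.Fi23.ChkZc_2

/-! Assembly of the kernel checks for the central element of the point stabilizer (Fi23). -/

set_option autoImplicit false
set_option maxRecDepth 100000

namespace Cfsg.Agent.Helper27.Fi23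

open Cfsg.Spor.Fi23 (Gen)
open Cfsg.Agent.Helper27 (BT)

noncomputable section

theorem zP_all : ∀ p, p < 31671 → zP p = true :=
  allRange_cover _ 31671 1173 27 (by norm_num) (by norm_num) (fun i hi => by
    match i, hi with
    | 0, _ => exact zp_0
    | 1, _ => exact zp_1
    | 2, _ => exact zp_2
    | 3, _ => exact zp_3
    | 4, _ => exact zp_4
    | 5, _ => exact zp_5
    | 6, _ => exact zp_6
    | 7, _ => exact zp_7
    | 8, _ => exact zp_8
    | 9, _ => exact zp_9
    | 10, _ => exact zp_10
    | 11, _ => exact zp_11
    | 12, _ => exact zp_12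
    | 13, _ => exact zp_13
    | 14, _ => exact zp_14
    | 15, _ => exact zp_15
    | 16, _ => exact zp_16
    | 17, _ => exact zp_17
    | 18, _ => exact zp_18
    | 19, _ => exact zp_19
    | 20, _ => exact zp_20
    | 21, _ => exact zp_21
    | 22, _ => exact zp_22
    | 23, _ => exact zp_23
    | 24, _ => exact zp_24
    | 25, _ => exact zp_25
    | 26, _ => exact zp_26
    | (k + 27), h => omega)

theorem conjP_all : ∀ p, p < 31671 → conjP p = true :=
  allRange_cover _ 31671 1173 27 (by norm_num) (by norm_num) (fun i hi => by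
    match i, hi with
    | 0, _ => exact cj_0
    | 1, _ => exact cj_1
    | 2, _ => exact cj_2
    | 3, _ => exact cj_3
    | 4, _ => exact cj_4
    | 5, _ => exact cj_5
    | 6, _ => exact cj_6
    | 7, _ => exact cj_7
    | 8, _ => exact cj_8
    | 9, _ => exact cj_9
    | 10, _ => exact cj_10
    | 11, _ => exact cj_11
    | 12, _ => exact cj_12
    | 13, _ => exact cj_13
    | 14, _ => exact cj_14
    | 15, _ => exact cj_15
    | 16, _ => exact cj_16
    | 17, _ => exact cj_17
    | 18, _ => exact cj_18
    | 19, _ => exact cj_19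
    | 20, _ => exact cj_20
    | 21, _ => exact cj_21
    | 22, _ => exact cj_22
    | 23, _ => exact cj_23
    | 24, _ => exact cj_24
    | 25, _ => exact cj_25
    | 26, _ => exact cj_26
    | (k + 27), h => omega)

theorem zcP_all : ∀ (x : Gen), gIdx x ≠ 7 → ∀ p, p < 31671 → zcP x p = true
  | .a, _ =>
    allRange_cover _ 31671 10557 3 (by norm_num) (by norm_num) (fun i hi => by
      match i, hi with
      | 0, _ => exact zc_a_0
      | 1, _ => exact zc_a_1
      | 2, _ => exact zc_a_2
      | (k + 3), h => omega)
  | .b, _ =>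
    allRange_cover _ 31671 10557 3 (by norm_num) (by norm_num) (fun i hi => by
      match i, hi with
      | 0, _ => exact zc_b_0
      | 1, _ => exact zc_b_1
      | 2, _ => exact zc_b_2
      | (k + 3), h => omega)
  | .c, _ =>
    allRange_cover _ 31671 10557 3 (by norm_num) (by norm_num) (fun i hi => by
      match i, hi with
      | 0, _ => exact zc_c_0
      | 1, _ => exact zc_c_1
      | 2, _ => exact zc_c_2
      | (k + 3), h => omega)
  | .d, _ =>
    allRange_cover _ 31671 10557 3 (by norm_num) (by norm_num) (fun i hi => by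
      match i, hi with
      | 0, _ => exact zc_d_0
      | 1, _ => exact zc_d_1
      | 2, _ => exact zc_d_2
      | (k + 3), h => omega)
  | .e, _ =>
    allRange_cover _ 31671 10557 3 (by norm_num) (by norm_num) (fun i hi => by
      match i, hi with
      | 0, _ => exact zc_e_0
      | 1, _ => exact zc_e_1
      | 2, _ => exact zc_e_2
      | (k + 3), h => omega)
  | .f, _ =>
    allRange_cover _ 31671 10557 3 (by norm_num) (by norm_num) (fun i hi => by
      match i, hi with
      | 0, _ => exact zc_f_0
      | 1, _ => exact zc_f_1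
      | 2, _ => exact zc_f_2
      | (k + 3), h => omega)
  | .g, _ =>
    allRange_cover _ 31671 10557 3 (by norm_num) (by norm_num) (fun i hi => by
      match i, hi with
      | 0, _ => exact zc_g_0
      | 1, _ => exact zc_g_1
      | 2, _ => exact zc_g_2
      | (k + 3), h => omega)
  | .j, h => absurd rfl h
  | .h, _ =>
    allRange_cover _ 31671 10557 3 (by norm_num) (by norm_num) (fun i hi => by
      match i, hi with
      | 0, _ => exact zc_h_0
      | 1, _ => exact zc_h_1
      | 2, _ => exact zc_h_2
      | (k + 3), h => omega)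
  | .i, _ =>
    allRange_cover _ 31671 10557 3 (by norm_num) (by norm_num) (fun i hi => by
      match i, hi with
      | 0, _ => exact zc_i_0
      | 1, _ => exact zc_i_1
      | 2, _ => exact zc_i_2
      | (k + 3), h => omega)

end

end Cfsg.Agent.Helper27.Fi23
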