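import Cfsg.Agent.Lib.Helper27.Fi23.Lower
import Cfsg.Agent.Lib.Helper27.Fi23.ZAll
import Cfsg.Agent.Lib.Helper27.Fi23.Tower
import Cfsg.Agent.Lib.Helper92.Fi23Perf
import Cfsg.Agent.Lib.Helper92.Rank3SimpleGen

/-!
# The presented group Fi23 is simple of order 4089470473293004800

The permutation representation on 31671 points is faithful because the order of the presented
group is at most the order of its image; simplicity follows from the rank 3 criterion applied
to the stabilizer `⟨a,…,i⟩` of a point, whose centre contains `z = (b c d e f g h)^9`, a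
conjugate of the generator `j`.
-/

set_option autoImplicit false
set_option maxRecDepth 100000

namespace Cfsg.Agent.Helper27.Fi23

open Cfsg.Spor.Fi23 (Gen)
open Cfsg.Agent.Helper27 (BT)

noncomputable section

theorem card_eq (h89 : Cfsg.Agent.Helper27.Fi23Tower.Stmt89) : Nat.card Cfsg.Spor.Fi23 = 4089470473293004800 := by
  obtain ⟨hfin, hle⟩ := Cfsg.Agent.Helper27.Fi23Tower.card_Fi23 h89
  have h1 := card_range_ge
  have h2 : Nat.card phi.range ≤ Nat.card Cfsg.Spor.Fi23 :=
    Nat.card_le_card_of_surjective _ phi.rangeRestrict_surjective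
  omega

theorem finite_Fi23 (h89 : Cfsg.Agent.Helper27.Fi23Tower.Stmt89) : Finite Cfsg.Spor.Fi23 :=
  (Cfsg.Agent.Helper27.Fi23Tower.card_Fi23 h89).1

theorem phi_injective (h89 : Cfsg.Agent.Helper27.Fi23Tower.Stmt89) : Function.Injective phi := by
  haveI := finite_Fi23 h89
  have h1 := card_range_ge
  have h2 : Nat.card Cfsg.Spor.Fi23 ≤ Nat.card phi.range := by
    rw [card_eq h89]
    exact h1
  have hb := phi.rangeRestrict_surjective.bijective_of_nat_card_le h2
  intro x y hxy
  apply hb.1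
  exact Subtype.ext hxy

/-- the subgroup generators of statement S1689 -/
abbrev S89 : Set (FreeGroup Gen) :=
  {Cfsg.Spor.Fi23.a, Cfsg.Spor.Fi23.b, Cfsg.Spor.Fi23.c, Cfsg.Spor.Fi23.d, Cfsg.Spor.Fi23.e,
    Cfsg.Spor.Fi23.f, Cfsg.Spor.Fi23.g, Cfsg.Spor.Fi23.h, Cfsg.Spor.Fi23.i}

/-- the subgroup of statement S1689 -/
abbrev H89 : Subgroup Cfsg.Spor.Fi23 :=
  (Subgroup.closure S89).map (PresentedGroup.mk rels)

/-- the central element of `H89` -/
def zG : Cfsg.Spor.Fi23 :=
  PresentedGroup.mk rels ((Cfsg.Spor.Fi23.b * Cfsg.Spor.Fi23.c * Cfsg.Spor.Fi23.d *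
    Cfsg.Spor.Fi23.e * Cfsg.Spor.Fi23.f * Cfsg.Spor.Fi23.g * Cfsg.Spor.Fi23.h) ^ 9)

/-- the conjugating element -/
def uE : Cfsg.Spor.Fi23 := (uG.map (fun x => (PresentedGroup.of x : Cfsg.Spor.Fi23))).prod

theorem phi_z : phi zG = σW wz ^ 9 := by
  unfold zG
  rw [phi_mk']
  simp only [map_pow, map_mul, FreeGroup.lift_apply_of]
  simp [σW, wz, mul_assoc]

theorem phi_u : phi uE = σW uG := by
  unfold uE σW
  rw [map_list_prod, List.map_map]
  have h : (phi ∘ fun x => (PresentedGroup.of x : Cfsg.Spor.Fi23)) = σ := funext phi_of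
  rw [h]

theorem z_val (p : Fin 31671) : ((σW wz ^ 9) p).val = look tabZ p.val := by
  rw [pow_val (σW wz) (actW wz) (σW_val wz) 9 p]
  have h := zP_all p.val p.2
  exact (Nat.eq_of_beq_eq_true (andB_eq_true h).1).symm

theorem z_comm (x : Gen) (hx : gIdx x ≠ 7) : σ x * σW wz ^ 9 = σW wz ^ 9 * σ x := by
  ext p
  rw [Equiv.Perm.mul_apply, Equiv.Perm.mul_apply, σ_val, z_val, z_val, σ_val]
  exact Nat.eq_of_beq_eq_true (zcP_all x hx p.val p.2)

theorem u_conj : σW uG * σW wz ^ 9 = σ .j * σW uG := by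
  ext p
  rw [Equiv.Perm.mul_apply, Equiv.Perm.mul_apply, σW_val, z_val, σ_val, σW_val]
  exact Nat.eq_of_beq_eq_true (conjP_all p.val p.2)

theorem gen_fix0 (x : Gen) (hx : gIdx x ≠ 7) : phi (PresentedGroup.mk rels (FreeGroup.of x)) 0 = 0 := by
  have h : phi (PresentedGroup.mk rels (FreeGroup.of x)) = σ x := phi_of x
  rw [h]
  apply Fin.ext
  rw [σ_val]
  rcases orB_eq_true (allG_sound chk_fix0 x) with h | h
  · exact absurd (Nat.eq_of_beq_eq_true h) hx
  · exact Nat.eq_of_beq_eq_true h

/-- every element of `H89` fixes the point `0` -/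
theorem H89_fix : ∀ h ∈ H89, phi h 0 = 0 := by
  rintro h ⟨w, hw, rfl⟩
  induction hw using Subgroup.closure_induction with
  | mem s hs =>
    simp only [Set.mem_insert_iff, Set.mem_singleton_iff] at hs
    rcases hs with rfl | rfl | rfl | rfl | rfl | rfl | rfl | rfl | rfl
    · exact gen_fix0 .a (by decide)
    · exact gen_fix0 .b (by decide)
    · exact gen_fix0 .c (by decide)
    · exact gen_fix0 .d (by decide)
    · exact gen_fix0 .e (by decide)
    · exact gen_fix0 .f (by decide)
    · exact gen_fix0 .g (by decide)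
    · exact gen_fix0 .h (by decide)
    · exact gen_fix0 .i (by decide)
  | one => simp
  | mul a b _ _ ha hb =>
    rw [map_mul, map_mul, Equiv.Perm.mul_apply, hb, ha]
  | inv a _ ha =>
    rw [map_inv, map_inv]
    exact (Equiv.Perm.inv_eq_iff_eq).mpr ha.symm

theorem gen_comm (h89 : Cfsg.Agent.Helper27.Fi23Tower.Stmt89) (x : Gen) (hx : gIdx x ≠ 7) :
    (PresentedGroup.mk rels (FreeGroup.of x) : Cfsg.Spor.Fi23) * zG =
      zG * PresentedGroup.mk rels (FreeGroup.of x) := by
  apply phi_injective h89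
  have h : phi (PresentedGroup.mk rels (FreeGroup.of x)) = σ x := phi_of x
  rw [map_mul, map_mul, h, phi_z]
  exact z_comm x hx

/-- the element `zG` centralizes `H89` -/
theorem H89_comm (h89 : Cfsg.Agent.Helper27.Fi23Tower.Stmt89) : ∀ h ∈ H89, h * zG = zG * h := by
  rintro h ⟨w, hw, rfl⟩
  induction hw using Subgroup.closure_induction with
  | mem s hs =>
    simp only [Set.mem_insert_iff, Set.mem_singleton_iff] at hs
    rcases hs with rfl | rfl | rfl | rfl | rfl | rfl | rfl | rfl | rfl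
    · exact gen_comm h89 .a (by decide)
    · exact gen_comm h89 .b (by decide)
    · exact gen_comm h89 .c (by decide)
    · exact gen_comm h89 .d (by decide)
    · exact gen_comm h89 .e (by decide)
    · exact gen_comm h89 .f (by decide)
    · exact gen_comm h89 .g (by decide)
    · exact gen_comm h89 .h (by decide)
    · exact gen_comm h89 .i (by decide)
  | one => simp
  | mul a b _ _ ha hb =>
    rw [map_mul, mul_assoc, hb, ← mul_assoc, ha, mul_assoc]
  | inv a _ ha =>
    rw [map_inv]
    rw [eq_mul_inv_iff_mul_eq, mul_assoc, ← ha, ← mul_assoc, inv_mul_cancel, one_mul]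

theorem normalClosure_z (h89 : Cfsg.Agent.Helper27.Fi23Tower.Stmt89) : Subgroup.normalClosure ({zG} : Set Cfsg.Spor.Fi23) = ⊤ := by
  rw [eq_top_iff, ← Cfsg.Agent.Helper92.Fi23Perf.normalClosure_j]
  apply Subgroup.normalClosure_le_normal
  intro g hg
  rw [Set.mem_singleton_iff] at hg
  subst hg
  have hz : zG ∈ Subgroup.normalClosure ({zG} : Set Cfsg.Spor.Fi23) :=
    Subgroup.subset_normalClosure (Set.mem_singleton _)
  have hconj : uE * zG * uE⁻¹ = PresentedGroup.of Gen.j := by
    apply phi_injective h89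
    rw [map_mul, map_mul, map_inv, phi_u, phi_z, phi_of, u_conj]
    group
  rw [← hconj]
  exact (Subgroup.normalClosure_normal).conj_mem _ hz _

theorem H89_core (h89 : Cfsg.Agent.Helper27.Fi23Tower.Stmt89) : H89.normalCore = ⊥ := by
  rw [eq_bot_iff]
  intro g hg
  rw [Subgroup.mem_bot]
  apply phi_injective h89
  rw [map_one]
  ext x
  obtain ⟨u, rfl⟩ := phi_trans x
  have hn : (H89.normalCore).Normal := Subgroup.normalCore_normal H89
  have h1 : u⁻¹ * g * u ∈ H89.normalCore := by
    have := hn.conj_mem g hg u⁻¹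
    rwa [inv_inv] at this
  have h2 := H89_fix _ (Subgroup.normalCore_le H89 h1)
  rw [map_mul, map_mul, Equiv.Perm.mul_apply, Equiv.Perm.mul_apply, map_inv] at h2
  have h3 := (Equiv.Perm.inv_eq_iff_eq).mp h2
  rw [Equiv.Perm.one_apply]
  exact congrArg Fin.val h3

theorem simple_Fi23 (h89 : Cfsg.Agent.Helper27.Fi23Tower.Stmt89) : IsSimpleGroup Cfsg.Spor.Fi23 := by
  haveI := finite_Fi23 h89
  have hc := H89_comm h89
  have hn := normalClosure_z h89
  have hk := H89_core h89
  obtain ⟨hidx, q₁, q₂, h1, h2⟩ := h89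
  exact Cfsg.Agent.Helper92.Rank3Simple.isSimpleGroup_of_rank3_gen H89 31671 3510 28160 hidx
    (by norm_num) (by norm_num) (by norm_num) (by norm_num) (by norm_num) (by norm_num)
    (by norm_num) q₁ q₂ h1 h2 zG hc hn
    Cfsg.Agent.Helper92.Fi23Perf.commutator_eq_top hk

end

end Cfsg.Agent.Helper27.Fi23
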