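import Cfsg.Agent.Lib.Helper27.Fi23.Cover
import Cfsg.Agent.Lib.Helper27.Fi23.TransGen
import Cfsg.Prelude.Def_Sporadic

/-!
# The class of 3-transpositions of the presented `Fi23`

The class of `z = (b c d e f g h)^9` (a conjugate of the generator `j`) is a class of `31671`
3-transpositions generating the presented `Fi23`; the centralizer of `z` is `⟨a,…,i⟩`, a
non-split double cover of the presented `Fi22`.
-/

set_option autoImplicit false
set_option maxRecDepth 100000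

namespace Cfsg.Agent.Helper27.Fi23Trans

open Cfsg.Agent.Helper27.Fi23 (H89 S89 rels zG uE phi σ σW wz uG F)

noncomputable section

/-- the generator `x` of `Fi23` -/
abbrev gn (x : Cfsg.Spor.Fi23.Gen) : Cfsg.Spor.Fi23 := PresentedGroup.of x

theorem conj_z (h89 : Cfsg.Agent.Helper27.Fi23Tower.Stmt89) : uE * zG * uE⁻¹ = gn .j := by
  apply Cfsg.Agent.Helper27.Fi23.phi_injective h89
  rw [map_mul, map_mul, map_inv, Cfsg.Agent.Helper27.Fi23.phi_u, Cfsg.Agent.Helper27.Fi23.phi_z,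
    Cfsg.Agent.Helper27.Fi23.phi_of, Cfsg.Agent.Helper27.Fi23.u_conj]
  group

theorem zG_eq (h89 : Cfsg.Agent.Helper27.Fi23Tower.Stmt89) : zG = uE⁻¹ * gn .j * uE := by
  rw [← conj_z h89]
  group

theorem conj_adj (x y : Cfsg.Spor.Fi23.Gen)
    (h : Cfsg.Spor.coxLabel Cfsg.Spor.Fi23.edges x y = 3) : IsConj (gn x) (gn y) := by
  rw [isConj_iff]
  exact ⟨gn x * gn y, (Cfsg.Agent.Helper92.Fi23Perf.conj_of_adj x y h).symm⟩

theorem conj_j_a : ∃ c : Cfsg.Spor.Fi23, c * gn .j * c⁻¹ = gn .a := by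
  have h : IsConj (gn .j) (gn .a) :=
    (conj_adj .j .g (by decide)).trans ((conj_adj .g .f (by decide)).trans
      ((conj_adj .f .e (by decide)).trans ((conj_adj .e .d (by decide)).trans
        ((conj_adj .d .c (by decide)).trans ((conj_adj .c .b (by decide)).trans
          (conj_adj .b .a (by decide)))))))
  exact isConj_iff.1 h

theorem chk_a0 : Nat.beq (F .a 0) (F .j 0) = false := by decide +kernel

theorem chk_g0 : Nat.beq (F .g 0) (F .j 0) = false := by decide +kernel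

theorem gn_ne (x : Cfsg.Spor.Fi23.Gen) (hx : Nat.beq (F x 0) (F .j 0) = false) : gn x ≠ gn .j := by
  intro h
  have h1 := congrArg phi h
  have ha : phi (gn x) = σ x := Cfsg.Agent.Helper27.Fi23.phi_of _
  have hb : phi (gn .j) = σ .j := Cfsg.Agent.Helper27.Fi23.phi_of _
  rw [ha, hb] at h1
  have h2 := congrArg (fun τ : Equiv.Perm (Fin 31671) => (τ ⟨0, by norm_num⟩).val) h1
  simp only [Cfsg.Agent.Helper27.Fi23.σ_val] at h2
  rw [h2] at hx
  simp at hx

theorem conj_u (h89 : Cfsg.Agent.Helper27.Fi23Tower.Stmt89) (c : Cfsg.Spor.Fi23) :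
    zG * ((uE⁻¹ * c * uE) * zG * (uE⁻¹ * c * uE)⁻¹) =
      uE⁻¹ * (gn .j * (c * gn .j * c⁻¹)) * uE ∧
    ((uE⁻¹ * c * uE) * zG * (uE⁻¹ * c * uE)⁻¹) * zG =
      uE⁻¹ * ((c * gn .j * c⁻¹) * gn .j) * uE ∧
    (uE⁻¹ * c * uE) * zG * (uE⁻¹ * c * uE)⁻¹ = uE⁻¹ * (c * gn .j * c⁻¹) * uE := by
  rw [zG_eq h89]
  refine ⟨by group, by group, by group⟩

/-- the class of `zG` -/
theorem class_z (h89 : Cfsg.Agent.Helper27.Fi23Tower.Stmt89) :
    Subgroup.centralizer ({zG} : Set Cfsg.Spor.Fi23) = H89 ∧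
      Cfsg.IsThreeTranspositionClass (conjugatesOf zG) ∧ Nat.card (conjugatesOf zG) = 31671 := by
  have hfin := Cfsg.Agent.Helper27.Fi23.finite_Fi23 h89
  have hc := Cfsg.Agent.Helper27.Fi23.H89_comm h89
  have hn := Cfsg.Agent.Helper27.Fi23.normalClosure_z h89
  have hjj : gn .j * gn .j = 1 := Cfsg.Agent.Helper92.Fi23Perf.of_mul_self .j
  have hz2 : zG * zG = 1 := by
    rw [zG_eq h89]
    have : uE⁻¹ * gn .j * uE * (uE⁻¹ * gn .j * uE) = uE⁻¹ * (gn .j * gn .j) * uE := by group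
    rw [this, hjj, mul_one, inv_mul_cancel]
  obtain ⟨c1, hc1⟩ := conj_j_a
  -- the second conjugate: `g = (j g) j (j g)⁻¹`
  have hc2 : (gn .j * gn .g) * gn .j * (gn .j * gn .g)⁻¹ = gn .g :=
    (Cfsg.Agent.Helper92.Fi23Perf.conj_of_adj .j .g (by decide)).symm
  have hja : (gn .j * gn .a) ^ 2 = 1 := Cfsg.Agent.Helper92.Fi23Perf.of_pow_label .j .a
  have hjg : (gn .j * gn .g) ^ 3 = 1 := Cfsg.Agent.Helper92.Fi23Perf.of_pow_label .j .g
  obtain ⟨e1, e1', e1''⟩ := conj_u h89 c1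
  obtain ⟨e2, e2', e2''⟩ := conj_u h89 (gn .j * gn .g)
  obtain ⟨hidx, q₁, q₂, h1, h2⟩ := h89
  refine three_transposition_of_rank3 H89 31671 3510 28160 hidx (by norm_num) (by norm_num)
    (by norm_num) (by norm_num) (by norm_num) (by norm_num) (by norm_num) q₁ q₂ h1 h2 zG hz2
    Cfsg.Agent.Helper27.Fi23Cover.zG_ne_one hc hn (uE⁻¹ * c1 * uE) (uE⁻¹ * (gn .j * gn .g) * uE)
    ?_ ?_ ?_ ?_
  · rw [e1, hc1, conj_pow_eq_one_iff' , hja]
  · rw [e1'', hc1]
    intro h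
    apply gn_ne .a chk_a0
    have := congrArg (fun y => uE * y * uE⁻¹) h
    rw [← conj_z ⟨hidx, q₁, q₂, h1, h2⟩]
    rw [← this]
    group
  · rw [e2, hc2, conj_pow_eq_one_iff', hjg]
  · rw [e2, e2', hc2]
    intro h
    have hcomm : gn .j * gn .g = gn .g * gn .j := by
      have := congrArg (fun y => uE * y * uE⁻¹) h
      have l1 : uE * (uE⁻¹ * (gn .j * gn .g) * uE) * uE⁻¹ = gn .j * gn .g := by group
      have l2 : uE * (uE⁻¹ * (gn .g * gn .j) * uE) * uE⁻¹ = gn .g * gn .j := by group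
      rw [l1, l2] at this
      exact this
    have hgg : gn .g * gn .g = 1 := Cfsg.Agent.Helper92.Fi23Perf.of_mul_self .g
    have h2' : (gn .j * gn .g) ^ 2 = 1 := by
      rw [pow_two]
      calc gn .j * gn .g * (gn .j * gn .g) = gn .j * (gn .g * gn .j) * gn .g := by group
        _ = gn .j * (gn .j * gn .g) * gn .g := by rw [hcomm]
        _ = (gn .j * gn .j) * (gn .g * gn .g) := by group
        _ = 1 := by rw [hjj, hgg, one_mul]
    have h1' : gn .j * gn .g = 1 := by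
      have : (gn .j * gn .g) ^ 3 = (gn .j * gn .g) ^ 2 * (gn .j * gn .g) := pow_succ _ 2
      rw [hjg, h2', one_mul] at this
      exact this.symm
    apply gn_ne .g chk_g0
    have : gn .g = (gn .j)⁻¹ := eq_inv_of_mul_eq_one_right h1'
    rw [this]
    exact inv_eq_of_mul_eq_one_left hjj

/-- statement S0472, given statement S1689 -/
theorem realization (h89 : Cfsg.Agent.Helper27.Fi23Tower.Stmt89) :
    ∃ (G : Type) (_ : Group G) (_ : Finite G), Cfsg.IsFi23 G ∧ ∃ D : Set G,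
      Cfsg.IsThreeTranspositionClass D ∧ Nat.card D = 31671 ∧ ∀ d ∈ D, ∃ (K : Type) (_ : Group K),
        Cfsg.IsFi22 K ∧ Cfsg.IsNonsplitDoubleCover (Subgroup.centralizer ({d} : Set G)) K := by
  have hfin := Cfsg.Agent.Helper27.Fi23.finite_Fi23 h89
  obtain ⟨hA, hT, hB⟩ := class_z h89
  refine ⟨Cfsg.Spor.Fi23, inferInstance, hfin,
    ⟨Cfsg.Agent.Helper27.Fi23.simple_Fi23 h89, Cfsg.Agent.Helper27.Fi23.card_eq h89⟩,
    conjugatesOf zG, hT, hB, ?_⟩
  intro d hd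
  refine ⟨Cfsg.Spor.Fi22, inferInstance,
    ⟨Cfsg.Agent.Helper27.Fi22.simple_Fi22, Cfsg.Agent.Helper27.Fi22.card_eq⟩, ?_⟩
  change IsConj zG d at hd
  rw [isConj_iff] at hd
  obtain ⟨c, rfl⟩ := hd
  have h0 : Cfsg.IsNonsplitDoubleCover ↥(Subgroup.centralizer ({zG} : Set Cfsg.Spor.Fi23))
      Cfsg.Spor.Fi22 := by
    rw [hA]
    exact Cfsg.Agent.Helper27.Fi23Cover.cover h89
  exact isNonsplitDoubleCover_of_mulEquiv (centralizerConjEquiv c zG) h0

end

end Cfsg.Agent.Helper27.Fi23Trans
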