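import Cfsg.Agent.Lib.Helper27.Fi23.Model

/-! Kernel checks of the spider relator of the 31671-point model of Fi23. -/

set_option autoImplicit false
set_option maxRecDepth 100000
set_option Elab.async false

namespace Cfsg.Agent.Helper27.Fi23

open Cfsg.Spor.Fi23 (Gen)
open Cfsg.Agent.Helper27 (BT)

theorem w1p_26 : allRange (w1P) (26 * 621) 621 = true := by decide +kernel
theorem w1p_27 : allRange (w1P) (27 * 621) 621 = true := by decide +kernel
theorem w1p_28 : allRange (w1P) (28 * 621) 621 = true := by decide +kernel
theorem w1p_29 : allRange (w1P) (29 * 621) 621 = true := by decide +kernel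
theorem w1p_30 : allRange (w1P) (30 * 621) 621 = true := by decide +kernel
theorem w1p_31 : allRange (w1P) (31 * 621) 621 = true := by decide +kernel
theorem w1p_32 : allRange (w1P) (32 * 621) 621 = true := by decide +kernel
theorem w1p_33 : allRange (w1P) (33 * 621) 621 = true := by decide +kernel
theorem w1p_34 : allRange (w1P) (34 * 621) 621 = true := by decide +kernel
theorem w1p_35 : allRange (w1P) (35 * 621) 621 = true := by decide +kernel
theorem w1p_36 : allRange (w1P) (36 * 621) 621 = true := by decide +kernel
theorem w1p_37 : allRange (w1P) (37 * 621) 621 = true := by decide +kernel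
theorem w1p_38 : allRange (w1P) (38 * 621) 621 = true := by decide +kernel

end Cfsg.Agent.Helper27.Fi23
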