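import Cfsg.Agent.Lib.Helper27.Fi23.Model
import Cfsg.Agent.Lib.Helper27.Fi23.Tabs2

/-!
# The central element of the point stabilizer in the 31671-point model of Fi23: definitions

The element `z = (b c d e f g h)^9` is given by a table; it commutes with `a, …, i`, fixes the
point `0`, and is conjugate to the generator `j`.
-/

set_option autoImplicit false
set_option maxRecDepth 100000

namespace Cfsg.Agent.Helper27.Fi23

open Cfsg.Spor.Fi23 (Gen)
open Cfsg.Agent.Helper27 (BT)

noncomputable section

/-- the word `b c d e f g h` -/
def wz : List Gen := [.b, .c, .d, .e, .f, .g, .h]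

/-- the conjugating word -/
def uG : List Gen :=
  [.g, .f, .e, .d, .h, .c, .d, .e, .b, .c, .d, .h, .f, .g, .e, .f, .d, .e, .c, .d, .h, .b, .c, .d,
   .e, .f, .g, .j]

/-- the table of `z` is the table of the word and is an involution table -/
def zP (p : Nat) : Bool := andB (Nat.beq (look tabZ p) (iter (actW wz) (nat_lit 9) p))
  (andB (Nat.blt (look tabZ p) NP) (Nat.beq (look tabZ (look tabZ p)) p))

/-- `z` commutes with a generator -/
def zcP (x : Gen) (p : Nat) : Bool := Nat.beq (F x (look tabZ p)) (look tabZ (F x p))

/-- `u z = j u` -/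
def conjP (p : Nat) : Bool := Nat.beq (actW uG (look tabZ p)) (F .j (actW uG p))

/-- the generators `a, …, i` fix the point `0` -/
def chkFix0 : Bool := allG (fun x => orB (Nat.beq (gIdx x) 7) (Nat.beq (F x 0) 0))

end

end Cfsg.Agent.Helper27.Fi23
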